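import Cfsg.Agent.Lib.Invol.WeakJ1.Facts
import Cfsg.Agent.Lib.Invol.TwoTimesAlt.Small

/-!
# A weak closure `2 × A₅` in the centraliser of a 2-central involution
-/

set_option autoImplicit false

namespace Cfsg.Agent.WeakJ1

open Subgroup TwoTimesAlt
open scoped Pointwise

variable {G : Type*} [Group G] [Finite G]

/-- The conjugates of `t` commuting with `t`. -/
def conjs (t : G) : Set G := {x : G | ∃ g : G, x = g * t * g⁻¹ ∧ x * t = t * x}

/-- Equal relative index for a supplement. -/
theorem relIndex_eq_of_factor {N L H : Subgroup G} (hLH : L ≤ H)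
    (h : ∀ x ∈ H, ∃ l ∈ L, l⁻¹ * x ∈ N) : N.relIndex H = N.relIndex L := by
  change (N.subgroupOf H).index = (N.subgroupOf L).index
  rw [Subgroup.index_eq_card, Subgroup.index_eq_card]
  refine (Nat.card_eq_of_bijective (Quotient.lift
    (fun l : L => (QuotientGroup.mk (⟨l, hLH l.2⟩ : H) : H ⧸ N.subgroupOf H)) ?_) ⟨?_, ?_⟩).symm
  · intro x y hxy
    exact QuotientGroup.eq.mpr (QuotientGroup.leftRel_apply.mp hxy : x⁻¹ * y ∈ N.subgroupOf L)
  · intro x y hxy
    induction x using QuotientGroup.induction_on with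
    | H x =>
    induction y using QuotientGroup.induction_on with
    | H y => exact QuotientGroup.eq.mpr (QuotientGroup.eq.mp hxy : _ ∈ N.subgroupOf H)
  · intro q
    induction q using QuotientGroup.induction_on with
    | H x =>
      obtain ⟨l, hl, hlx⟩ := h x x.2
      exact ⟨QuotientGroup.mk ⟨l, hl⟩, QuotientGroup.eq.mpr hlx⟩

/-- `t` is 2-central, and its weak closure in its centraliser is `⟨t⟩ × L`, `L ≅ A₅`. -/
structure Hyp (t : G) (L : Subgroup G) (a b y c : L) : Prop where
  ot : orderOf t = 2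
  facts : JFacts a b y c
  isoA : Nonempty (L ≃* alternatingGroup (Fin 5))
  tL : t ∉ L
  Lcomm : ∀ l ∈ L, t * l = l * t
  closure_eq : closure (conjs t) = zpowers t ⊔ L
  twoC : ∃ S : Sylow 2 G, ∀ s ∈ (S : Subgroup G), s * t = t * s

theorem exists_hyp {t : G} (ht : orderOf t = 2) (S : Sylow 2 G)
    (hS : ∀ s ∈ (S : Subgroup G), s * t = t * s)
    (hW : Nonempty (closure (conjs t) ≃* Multiplicative (ZMod 2) × alternatingGroup (Fin 5))) :
    ∃ (L : Subgroup G) (a b y c : L), Hyp t L a b y c := by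
  classical
  obtain ⟨e⟩ := hW
  set W := closure (conjs t) with hWdef
  have htW : t ∈ W := subset_closure ⟨1, by simp, rfl⟩
  let ι : alternatingGroup (Fin 5) →* G :=
    W.subtype.comp (e.symm.toMonoidHom.comp (MonoidHom.inr (Multiplicative (ZMod 2)) _))
  have hι : Function.Injective ι :=
    W.subtype_injective.comp (e.symm.injective.comp fun x y hxy => congrArg Prod.snd hxy)
  let f : alternatingGroup (Fin 5) ≃* ι.range := MonoidHom.ofInjective hι
  have htc : ∀ w ∈ W, t * w = w * t := by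
    intro w hw
    induction hw using closure_induction with
    | mem x hx => obtain ⟨g, -, hxt⟩ := hx; exact hxt.symm
    | one => simp
    | mul x y _ _ hx hy => exact (Commute.mul_right hx hy).eq
    | inv x _ hx => exact (Commute.inv_right hx).eq
  have hz : (e ⟨t, htW⟩).2 = 1 := by
    have hcen : ∀ x : alternatingGroup (Fin 5), (e ⟨t, htW⟩).2 * x = x * (e ⟨t, htW⟩).2 := by
      intro x
      have h1 : (⟨t, htW⟩ : W) * e.symm (1, x) = e.symm (1, x) * ⟨t, htW⟩ :=
        Subtype.ext (htc _ (e.symm (1, x)).2)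
      have h2 := congrArg (fun w => (e w).2) h1
      simpa using h2
    rcases vfacts_five.cent _ (hcen a5) (hcen b5) with hh | hh | hh | hh
    · exact hh
    all_goals
      exfalso
      have h3 := hcen y5
      rw [hh] at h3
      revert h3
      decide +kernel
  have htL : t ∉ ι.range := by
    rintro ⟨x, hx⟩
    have hx' : (⟨t, htW⟩ : W) = e.symm (1, x) := Subtype.ext hx.symm
    have h1 : e ⟨t, htW⟩ = (1, x) := by rw [hx', e.apply_symm_apply]
    rw [h1] at hz
    have h2 : (⟨t, htW⟩ : W) = 1 := e.injective (by rw [h1, map_one]; exact Prod.ext rfl hz)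
    exact (orderOf_eq_two.mp ht).2 (congrArg Subtype.val h2)
  refine ⟨ι.range, f a5, f b5, f y5, f c5, ?_⟩
  refine
    { ot := ht
      facts := jfacts_five.mapEquiv f (vfacts_five.of_equiv f)
      isoA := ⟨f.symm⟩
      tL := htL
      Lcomm := fun l hl => by
        obtain ⟨x, rfl⟩ := hl
        exact htc _ (e.symm (1, x)).2
      closure_eq := ?_
      twoC := ⟨S, hS⟩ }
  refine le_antisymm (fun w hw => ?_) (sup_le (zpowers_le.mpr htW) ?_)
  · obtain ⟨z, x⟩ := e ⟨w, hw⟩
    set p := e ⟨w, hw⟩ with hp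
    have hw' : w = (e.symm (p.1, 1) : G) * ι p.2 := by
      change w = ((e.symm (p.1, 1) : W) : G) * ((e.symm (1, p.2) : W) : G)
      rw [← coe_mul, ← map_mul, Prod.mk_mul_mk, mul_one, one_mul, hp, Prod.mk.eta, e.symm_apply_apply]
    rw [hw']
    refine mul_mem_sup ?_ ⟨_, rfl⟩
    have hord : ∀ z : Multiplicative (ZMod 2), z = 1 ∨ z = (e ⟨t, htW⟩).1 := by
      have hne : (e ⟨t, htW⟩).1 ≠ 1 := by
        intro h1
        have h2 : (⟨t, htW⟩ : W) = 1 := e.injective (by rw [map_one]; exact Prod.ext h1 hz)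
        exact (orderOf_eq_two.mp ht).2 (congrArg Subtype.val h2)
      revert hne
      generalize (e ⟨t, htW⟩).1 = u
      revert u
      decide
    rcases hord p.1 with hh | hh
    · rw [hh, show ((1 : Multiplicative (ZMod 2)), (1 : alternatingGroup (Fin 5))) = 1 from rfl,
        map_one]
      exact one_mem _
    · rw [hh, show ((e ⟨t, htW⟩).1, (1 : alternatingGroup (Fin 5))) = e ⟨t, htW⟩ from
        Prod.ext rfl hz.symm, e.symm_apply_apply]
      exact mem_zpowers t
  · rintro _ ⟨x, rfl⟩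
    exact (e.symm (1, x)).2

/-- `{1, a, b, a b}` and its product with `t`. -/
abbrev InE {L : Subgroup G} (t : G) (a b : L) (x : G) : Prop :=
  InV (a : G) b x ∨ InV (a : G) b (t * x)

/-- The elementary abelian group `⟨t, a, b⟩`. -/
def Egrp {L : Subgroup G} (t : G) (a b : L) : Subgroup G := closure {t, (a : G), (b : G)}

namespace Hyp

variable {t : G} {L : Subgroup G} {a b y c : L} (h : Hyp t L a b y c)
include h

theorem sqt : t * t = 1 := (orderOf_eq_two.mp h.ot).1

theorem t_ne : t ≠ 1 := (orderOf_eq_two.mp h.ot).2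

theorem invt : t⁻¹ = t := inv_eq_of_mul_eq_one_right h.sqt

theorem t_mul_mem {l : G} (hl : l ∈ L) : t * l ∉ L := fun hh =>
  h.tL (by simpa using mul_mem hh (inv_mem hl))

theorem mem_W_iff {w : G} : w ∈ closure (conjs t) ↔ w ∈ L ∨ t * w ∈ L := by
  rw [h.closure_eq]
  constructor
  · intro hw
    have hn : zpowers t ≤ normalizer (L : Set G) := by
      rw [zpowers_le, mem_normalizer_iff]
      intro x
      constructor
      · intro hx; rw [h.Lcomm x hx, mul_inv_cancel_right]; exact hx
      · intro hx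
        have h2 := h.Lcomm _ hx
        rw [show x = t⁻¹ * (t * x * t⁻¹) * t by group, h.invt]
        rw [h.invt] at h2 hx
        rw [show t * (t * x * t) * t = (t * (t * x * t)) * t by group, h2,
          show t * x * t * t * t = t * x * t * (t * t) by group, h.sqt, mul_one]
        exact hx
    rw [← SetLike.mem_coe, sup_comm, coe_mul_of_right_le_normalizer_left _ _ hn] at hw
    obtain ⟨l, hl, z, hz, rfl⟩ := hw
    obtain ⟨k, rfl⟩ := mem_zpowers_iff.mp hz
    have hk := zpow_mod_orderOf t k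
    rw [h.ot] at hk
    rcases Int.emod_two_eq_zero_or_one k with hk' | hk' <;> push_cast at hk <;> rw [hk'] at hk
    · rw [zpow_zero] at hk
      change l * t ^ k ∈ L ∨ _
      rw [← hk, mul_one]; exact Or.inl hl
    · rw [zpow_one] at hk
      change _ ∨ t * (l * t ^ k) ∈ L
      rw [← hk, ← h.Lcomm l hl, ← mul_assoc, h.sqt, one_mul]; exact Or.inr hl
  · rintro (hw | hw)
    · exact mem_sup_right hw
    · have : w = t * (t * w) := by rw [← mul_assoc, h.sqt, one_mul]
      rw [this]
      exact mul_mem_sup (mem_zpowers t) hw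

theorem L_le_W : L ≤ closure (conjs t) := fun _ hl => h.mem_W_iff.mpr (Or.inl hl)

theorem t_mem_W : t ∈ closure (conjs t) := subset_closure ⟨1, by simp, rfl⟩

theorem L_le_C : L ≤ centralizer ({t} : Set G) := fun l hl =>
  mem_centralizer_singleton_iff.mpr (h.Lcomm l hl).symm

theorem t_comm_W {w : G} (hw : w ∈ closure (conjs t)) : t * w = w * t := by
  rcases h.mem_W_iff.mp hw with hl | hl
  · exact h.Lcomm w hl
  · have h1 := h.Lcomm _ hl
    rw [← mul_assoc t t, h.sqt, one_mul] at h1
    nth_rewrite 2 [h1]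
    rw [mul_assoc, mul_assoc, h.sqt, mul_one]

theorem conj_mem_W {x : G} (hx : x ∈ centralizer ({t} : Set G)) {w : G}
    (hw : w ∈ closure (conjs t)) : x * w * x⁻¹ ∈ closure (conjs t) := by
  have hxt : x * t = t * x := mem_centralizer_singleton_iff.mp hx
  induction hw using closure_induction with
  | mem u hu =>
    obtain ⟨g, rfl, hu⟩ := hu
    refine subset_closure ⟨x * g, by group, ?_⟩
    calc x * (g * t * g⁻¹) * x⁻¹ * t = x * (g * t * g⁻¹ * t) * x⁻¹ := by
          rw [show x * (g * t * g⁻¹) * x⁻¹ * t = x * (g * t * g⁻¹) * (x⁻¹ * t) by group,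
            ((Commute.inv_left hxt : Commute x⁻¹ t)).eq]
          group
      _ = x * (t * (g * t * g⁻¹)) * x⁻¹ := by rw [hu]
      _ = t * (x * (g * t * g⁻¹) * x⁻¹) := by rw [← mul_assoc, hxt]; group
  | one => simp
  | mul u v _ _ hu hv => simpa [mul_assoc] using mul_mem hu hv
  | inv u _ hu => simpa [mul_assoc] using inv_mem hu

/-- `L` is normalised by the centraliser of `t`. -/
theorem conj_mem_L {x : G} (hx : x ∈ centralizer ({t} : Set G)) {l : G} (hl : l ∈ L) :
    x * l * x⁻¹ ∈ L := by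
  have key : ∀ u : G, u ∈ L → ∀ k : ℕ, Odd k → u ^ k = 1 → x * u * x⁻¹ ∈ L := by
    intro u hu k hk huk
    rcases h.mem_W_iff.mp (h.conj_mem_W hx (h.L_le_W hu)) with hh | hh
    · exact hh
    exfalso
    obtain ⟨r, rfl⟩ := hk
    set v := x * u * x⁻¹ with hv
    have hv1 : v ^ (2 * r + 1) = 1 := by rw [hv, conj_pow, huk]; group
    have hcomm : Commute t v := h.t_comm_W (h.conj_mem_W hx (h.L_le_W hu))
    have h2 := pow_mem hh (2 * r + 1)
    rw [hcomm.mul_pow, hv1, mul_one, pow_succ, pow_mul, pow_two, h.sqt, one_pow, one_mul] at h2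
    exact h.tL h2
  have hy3 : (y : G) ^ 3 = 1 := congrArg Subtype.val h.facts.y3
  have hay : ((a : G) * y) ^ 5 = 1 := congrArg Subtype.val h.facts.ay5
  rcases h.facts.ord ⟨l, hl⟩ with hh | hh | hh
  · by_cases h1 : (⟨l, hl⟩ : L) = 1
    · rw [show l = 1 from congrArg Subtype.val h1]; simp
    obtain ⟨d, hd⟩ := h.facts.one_class ⟨l, hl⟩ hh h1
    have ea : x * (a : G) * x⁻¹ ∈ L := by
      have e1 := key _ (mul_mem a.2 y.2) 5 (by decide) hay
      have e2 := key _ y.2 3 (by decide) hy3
      have := mul_mem e1 (inv_mem e2)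
      rwa [show x * ((a : G) * y) * x⁻¹ * (x * (y : G) * x⁻¹)⁻¹ = x * (a : G) * x⁻¹ by group] at this
    have hl' : (d : G) * a * (d : G)⁻¹ = l := congrArg Subtype.val hd
    have ed : x * (d : G) * x⁻¹ ∈ closure (conjs t) := h.conj_mem_W hx (h.L_le_W d.2)
    rw [← hl', show x * ((d : G) * a * (d : G)⁻¹) * x⁻¹ =
      (x * (d : G) * x⁻¹) * (x * (a : G) * x⁻¹) * (x * (d : G) * x⁻¹)⁻¹ by group]
    rcases h.mem_W_iff.mp ed with hd' | hd'
    · exact mul_mem (mul_mem hd' ea) (inv_mem hd')
    · have h3 := mul_mem (mul_mem hd' ea) (inv_mem hd')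
      rwa [show ∀ u v : G, t * u * v * (t * u)⁻¹ = t * (u * v * u⁻¹) * t⁻¹ by intros; group,
        h.t_comm_W (mul_mem (mul_mem ed (h.L_le_W ea)) (inv_mem ed)), mul_inv_cancel_right] at h3
  · exact key l hl 3 (by decide) (congrArg Subtype.val hh)
  · exact key l hl 5 (by decide) (congrArg Subtype.val hh)

theorem inV_L {x : G} (hx : InV (a : G) b x) : x ∈ L := by
  rcases hx with rfl | rfl | rfl | rfl
  exacts [one_mem L, a.2, b.2, mul_mem a.2 b.2]

theorem inV_sq {x : G} (hx : InV (a : G) b x) : x * x = 1 := by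
  have sa : (a : G) * a = 1 := congrArg Subtype.val h.facts.ha
  have sb : (b : G) * b = 1 := congrArg Subtype.val h.facts.hb
  have cab : (a : G) * b = b * a := congrArg Subtype.val h.facts.hcomm
  rcases hx with rfl | rfl | rfl | rfl
  · exact one_mul 1
  · exact sa
  · exact sb
  · rw [show (a : G) * b * (a * b) = a * (b * a) * b by group, ← cab, ← mul_assoc, sa, one_mul, sb]

theorem inV_mul {u v : G} (hu : InV (a : G) b u) (hv : InV (a : G) b v) :
    InV (a : G) b (u * v) := by
  have sa : (a : G) * a = 1 := congrArg Subtype.val h.facts.ha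
  have sb : (b : G) * b = 1 := congrArg Subtype.val h.facts.hb
  have cab : (a : G) * b = b * a := congrArg Subtype.val h.facts.hcomm
  rcases hu with rfl | rfl | rfl | rfl <;> rcases hv with rfl | rfl | rfl | rfl
  · exact Or.inl (one_mul 1)
  · exact Or.inr (Or.inl (one_mul _))
  · exact Or.inr (Or.inr (Or.inl (one_mul _)))
  · exact Or.inr (Or.inr (Or.inr (one_mul _)))
  · exact Or.inr (Or.inl (mul_one _))
  · exact Or.inl sa
  · exact Or.inr (Or.inr (Or.inr rfl))
  · exact Or.inr (Or.inr (Or.inl (by rw [← mul_assoc, sa, one_mul])))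
  · exact Or.inr (Or.inr (Or.inl (mul_one _)))
  · exact Or.inr (Or.inr (Or.inr cab.symm))
  · exact Or.inl sb
  · exact Or.inr (Or.inl (by rw [cab, ← mul_assoc, sb, one_mul]))
  · exact Or.inr (Or.inr (Or.inr (mul_one _)))
  · exact Or.inr (Or.inr (Or.inl (by rw [cab, mul_assoc, sa, mul_one])))
  · exact Or.inr (Or.inl (by rw [mul_assoc, sb, mul_one]))
  · exact Or.inl (h.inV_sq (Or.inr (Or.inr (Or.inr rfl))))

theorem inV_comm {u v : G} (hu : InV (a : G) b u) (hv : InV (a : G) b v) : u * v = v * u := by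
  have h1 := inv_eq_of_mul_eq_one_right (h.inV_sq (h.inV_mul hu hv))
  rw [mul_inv_rev, inv_eq_of_mul_eq_one_right (h.inV_sq hu),
    inv_eq_of_mul_eq_one_right (h.inV_sq hv)] at h1
  exact h1.symm

theorem inV_a : InV (a : G) b a := Or.inr (Or.inl rfl)

theorem inV_b : InV (a : G) b b := Or.inr (Or.inr (Or.inl rfl))

theorem mem_E_iff {x : G} : x ∈ Egrp t a b ↔ InE t a b x := by
  constructor
  · intro hx
    have hcl : ∀ u v, InE t a b u → InE t a b v → InE t a b (u * v) := by
      rintro u v (hu | hu) (hv | hv)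
      · exact Or.inl (h.inV_mul hu hv)
      · refine Or.inr ?_
        rw [← mul_assoc, h.Lcomm u (h.inV_L hu), mul_assoc]
        exact h.inV_mul hu hv
      · refine Or.inr ?_
        rw [← mul_assoc]; exact h.inV_mul hu hv
      · refine Or.inl ?_
        have h2 := h.inV_mul hu hv
        have h3 := h.Lcomm _ (h.inV_L hu)
        rw [← mul_assoc t t, h.sqt, one_mul] at h3
        rw [show t * u * (t * v) = (t * u * t) * v by group, ← h3] at h2
        exact h2
    have hinv : ∀ u, InE t a b u → u⁻¹ = u := by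
      rintro u (hu | hu)
      · exact inv_eq_of_mul_eq_one_right (h.inV_sq hu)
      · refine inv_eq_of_mul_eq_one_right ?_
        have h2 := h.inV_sq hu
        have h3 := h.Lcomm _ (h.inV_L hu)
        rw [← mul_assoc t t, h.sqt, one_mul] at h3
        rwa [show t * u * (t * u) = (t * u * t) * u by group, ← h3] at h2
    induction hx using closure_induction with
    | mem u hu =>
      rcases hu with rfl | rfl | rfl
      · exact Or.inr (by rw [h.sqt]; exact Or.inl rfl)
      · exact Or.inl h.inV_a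
      · exact Or.inl h.inV_b
    | one => exact Or.inl (Or.inl rfl)
    | mul u v _ _ hu hv => exact hcl u v hu hv
    | inv u _ hu => rw [hinv u hu]; exact hu
  · intro hx
    have hV : ∀ v, InV (a : G) b v → v ∈ Egrp t a b := by
      rintro v (rfl | rfl | rfl | rfl)
      · exact one_mem _
      · exact subset_closure (by simp)
      · exact subset_closure (by simp)
      · exact mul_mem (subset_closure (by simp)) (subset_closure (by simp))
    rcases hx with hx | hx
    · exact hV x hx
    · have : x = t * (t * x) := by rw [← mul_assoc, h.sqt, one_mul]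
      rw [this]
      exact mul_mem (subset_closure (by simp)) (hV _ hx)

theorem E_le_W : Egrp t a b ≤ closure (conjs t) := fun x hx => by
  rcases h.mem_E_iff.mp hx with hh | hh
  · exact h.mem_W_iff.mpr (Or.inl (h.inV_L hh))
  · exact h.mem_W_iff.mpr (Or.inr (h.inV_L hh))

theorem t_mem_E : t ∈ Egrp t a b := subset_closure (by simp)

theorem a_mem_E : (a : G) ∈ Egrp t a b := subset_closure (by simp)

theorem b_mem_E : (b : G) ∈ Egrp t a b := subset_closure (by simp)

theorem E_sq {x : G} (hx : x ∈ Egrp t a b) : x * x = 1 := by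
  rcases h.mem_E_iff.mp hx with hu | hu
  · exact h.inV_sq hu
  · have h2 := h.inV_sq hu
    have h3 := h.Lcomm _ (h.inV_L hu)
    rw [← mul_assoc t t, h.sqt, one_mul] at h3
    rwa [show t * x * (t * x) = (t * x * t) * x by group, ← h3] at h2

theorem E_comm {x z : G} (hx : x ∈ Egrp t a b) (hz : z ∈ Egrp t a b) : x * z = z * x := by
  have h1 := inv_eq_of_mul_eq_one_right (h.E_sq (mul_mem hx hz))
  rw [mul_inv_rev, inv_eq_of_mul_eq_one_right (h.E_sq hx),
    inv_eq_of_mul_eq_one_right (h.E_sq hz)] at h1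
  exact h1.symm

theorem orderOf_E {x : G} (hx : x ∈ Egrp t a b) (h1 : x ≠ 1) : orderOf x = 2 :=
  orderOf_eq_two.mpr ⟨h.E_sq hx, h1⟩

theorem E_L {x : G} (hx : x ∈ Egrp t a b) (hxL : x ∈ L) : InV (a : G) b x := by
  rcases h.mem_E_iff.mp hx with hh | hh
  · exact hh
  · exact absurd (h.inV_L hh) (h.t_mul_mem hxL)

/-- A conjugate of `t` commuting with `t` other than `t` is conjugate under `L` into `⟨t, a, b⟩`. -/
theorem exists_conj_E {d : G} (hd : d ∈ conjs t) :
    ∃ l ∈ L, l * d * l⁻¹ ∈ Egrp t a b := by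
  obtain ⟨g, rfl, hdt⟩ := hd
  have hdW : g * t * g⁻¹ ∈ closure (conjs t) := subset_closure ⟨g, rfl, hdt⟩
  have hd2 : orderOf (g * t * g⁻¹) = 2 := by rw [orderOf_conj, h.ot]
  set d := g * t * g⁻¹
  have key : ∀ u ∈ L, u * u = 1 → ∃ l ∈ L, InV (a : G) b (l * u * l⁻¹) := by
    intro u hu hu2
    by_cases h1 : (⟨u, hu⟩ : L) = 1
    · exact ⟨1, one_mem L, Or.inl (by simpa using congrArg Subtype.val h1)⟩
    obtain ⟨k, hk⟩ := h.facts.one_class ⟨u, hu⟩ (Subtype.ext hu2) h1
    refine ⟨(k : G)⁻¹, inv_mem k.2, Or.inr (Or.inl ?_)⟩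
    have hk' : (k : G) * a * (k : G)⁻¹ = u := congrArg Subtype.val hk
    rw [← hk']; group
  rcases h.mem_W_iff.mp hdW with hl | hl
  · obtain ⟨l, hlL, hv⟩ := key d hl (orderOf_eq_two.mp hd2).1
    exact ⟨l, hlL, h.mem_E_iff.mpr (Or.inl hv)⟩
  · have hc := h.t_comm_W hdW
    obtain ⟨l, hlL, hv⟩ := key (t * d) hl (by
      calc t * d * (t * d) = t * (d * t) * d := by simp only [mul_assoc]
        _ = (t * t) * (d * d) := by rw [← hc]; simp only [mul_assoc]
        _ = 1 := by rw [h.sqt, (orderOf_eq_two.mp hd2).1, one_mul])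
    refine ⟨l, hlL, h.mem_E_iff.mpr (Or.inr ?_)⟩
    rwa [show t * (l * d * l⁻¹) = l * (t * d) * l⁻¹ by
      rw [← mul_assoc, ← mul_assoc, h.Lcomm l hlL]; group]

end Hyp

end Cfsg.Agent.WeakJ1
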