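import Cfsg.Agent.Lib.Invol.WeakJ1.Orbit

/-!
# The part of the centraliser of `t` which the normaliser of `⟨t, a, b⟩` normalises
-/

set_option autoImplicit false

namespace Cfsg.Agent.WeakJ1

open Subgroup TwoTimesAlt

variable {G : Type*} [Group G]

/-- The elements centralising `t` and `L`. -/
abbrev Kgrp (t : G) (L : Subgroup G) : Subgroup G :=
  centralizer ({t} : Set G) ⊓ centralizer (L : Set G)

/-- The centraliser of `⟨t, a, b⟩`. -/
abbrev Rgrp {L : Subgroup G} (t : G) (a b : L) : Subgroup G := centralizer (Egrp t a b : Set G)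

/-- The elements whose conjugates under the normaliser of `⟨t, a, b⟩` centralise `t` and `L`. -/
def Xgrp {L : Subgroup G} (t : G) (a b : L) : Subgroup G :=
  ⨅ n : NE t a b, (Kgrp t L).comap (MulAut.conj (n : G)).toMonoidHom

theorem mem_Xgrp {L : Subgroup G} {t : G} {a b : L} {x : G} :
    x ∈ Xgrp t a b ↔ ∀ n ∈ NE t a b, n * x * n⁻¹ ∈ Kgrp t L := by
  simp [Xgrp, mem_iInf]

/-- The subgroup generated by the conjugates of `c` under the normaliser of `⟨t, a, b⟩`. -/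
def Cgrp {L : Subgroup G} (t : G) (a b c : L) : Subgroup G :=
  closure {x | ∃ m ∈ NE t a b, m * (c : G) * m⁻¹ = x}

theorem mem_of_pow_mem {A : Subgroup G} {q : G} {m n : ℕ} (hmn : Nat.Coprime m n)
    (hm : q ^ m ∈ A) (hn : q ^ n ∈ A) : q ∈ A := by
  have h1 : (1 : ℤ) = m * Nat.gcdA m n + n * Nat.gcdB m n := by
    rw [← Nat.gcd_eq_gcd_ab, hmn.gcd_eq_one]; norm_num
  rw [← zpow_one q, h1, zpow_add, zpow_mul, zpow_mul, zpow_natCast, zpow_natCast]
  exact mul_mem (zpow_mem hm _) (zpow_mem hn _)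

variable [Finite G]

namespace Hyp

variable {t : G} {L : Subgroup G} {a b y c : L} (h : Hyp t L a b y c)
include h

theorem E_le_R : Egrp t a b ≤ Rgrp t a b := fun _ hx =>
  mem_centralizer_iff.mpr fun _ hz => h.E_comm hz hx

theorem R_le_C : Rgrp t a b ≤ centralizer ({t} : Set G) := fun _ hx =>
  mem_centralizer_singleton_iff.mpr (mem_centralizer_iff.mp hx t h.t_mem_E).symm

theorem R_le_NE : Rgrp t a b ≤ NE t a b := fun x hx => mem_normalizer_of_conj fun z hz => by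
  rw [← mem_centralizer_iff.mp hx z hz, mul_inv_cancel_right]; exact hz

theorem mem_R_of_gen {n : G} (h1 : n * t * n⁻¹ = t) (h2 : n * a * n⁻¹ = a)
    (h3 : n * b * n⁻¹ = b) : n ∈ Rgrp t a b := by
  refine mem_centralizer_iff.mpr fun x hx => ?_
  have : n * x * n⁻¹ = x := by
    induction hx using closure_induction with
    | mem u hu => rcases hu with rfl | rfl | rfl <;> assumption
    | one => simp
    | mul u v _ _ hu hv =>
      rw [show n * (u * v) * n⁻¹ = (n * u * n⁻¹) * (n * v * n⁻¹) by group, hu, hv]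
    | inv u _ hu => rw [show n * u⁻¹ * n⁻¹ = (n * u * n⁻¹)⁻¹ by group, hu]
  calc x * n = (n * x * n⁻¹) * n := by rw [this]
    _ = n * x := by group

theorem conj_mem_E {n x : G} (hn : n ∈ NE t a b) (hx : x ∈ Egrp t a b) :
    n * x * n⁻¹ ∈ Egrp t a b := (mem_normalizer_iff.mp hn x).mp hx

theorem conj_mem_R {n x : G} (hn : n ∈ NE t a b) (hx : x ∈ Rgrp t a b) :
    n * x * n⁻¹ ∈ Rgrp t a b := mem_centralizer_iff.mpr fun z hz => by
  have := mem_centralizer_iff.mp hx _ (h.conj_mem_E (inv_mem hn) hz)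
  calc z * (n * x * n⁻¹) = n * ((n⁻¹ * z * n⁻¹⁻¹) * x) * n⁻¹ := by group
    _ = n * (x * (n⁻¹ * z * n⁻¹⁻¹)) * n⁻¹ := by rw [this]
    _ = n * x * n⁻¹ * z := by group

theorem conj_inV {n x : G} (hn : n ∈ centralizer ({t} : Set G) ⊓ NE t a b)
    (hx : InV (a : G) b x) : InV (a : G) b (n * x * n⁻¹) :=
  h.E_L (h.conj_mem_E hn.2 (h.mem_E_iff.mpr (Or.inl hx))) (h.conj_mem_L hn.1 (h.inV_L hx))

/-- An element fixing `t` and `a` fixes `b`. -/
theorem fix_b {n : G} (hn : n ∈ centralizer ({t} : Set G) ⊓ NE t a b) (hna : n * a * n⁻¹ = a) :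
    n * b * n⁻¹ = b := by
  obtain ⟨m, hm, hma⟩ := h.exists_NE h.a_mem_E h.a_ne
  have hk : m⁻¹ * n * m ∈ centralizer ({t} : Set G) ⊓ NE t a b := by
    refine mem_inf.mpr ⟨mem_centralizer_singleton_iff.mpr ?_, mul_mem (mul_mem (inv_mem hm) hn.2) hm⟩
    rw [← hma] at hna
    calc m⁻¹ * n * m * t = m⁻¹ * (n * (m * t * m⁻¹) * n⁻¹) * n * m := by group
      _ = t * (m⁻¹ * n * m) := by rw [hna]; group
  have hmul : ∀ x z, InV (a : G) b (m⁻¹ * x * m) → InV (a : G) b (m⁻¹ * z * m) →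
      InV (a : G) b (m⁻¹ * (x * z) * m) := fun x z hx hz => by
    have := h.inV_mul hx hz
    rwa [show m⁻¹ * x * m * (m⁻¹ * z * m) = m⁻¹ * (x * z) * m by group] at this
  have hPn : ∀ x, InV (a : G) b (m⁻¹ * x * m) → InV (a : G) b (m⁻¹ * (n * x * n⁻¹) * m) :=
    fun x hx => by
    have := h.conj_inV hk hx
    rwa [show m⁻¹ * n * m * (m⁻¹ * x * m) * (m⁻¹ * n * m)⁻¹ = m⁻¹ * (n * x * n⁻¹) * m by group]
      at this
  have hmt : m⁻¹ * a * m = t := by rw [← hma]; group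
  have ha' : ¬ InV (a : G) b (m⁻¹ * a * m) := fun hh => by
    rw [hmt] at hh
    exact h.tL (h.inV_L hh)
  have hsplit : ∀ x ∈ Egrp t a b, ¬ InV (a : G) b (m⁻¹ * x * m) →
      InV (a : G) b (m⁻¹ * (a * x) * m) := fun x hx hno => by
    have h1 := h.conj_mem_E (inv_mem hm) hx
    rw [inv_inv] at h1
    rcases h.mem_E_iff.mp h1 with hv | hv
    · exact absurd hv hno
    · rwa [show m⁻¹ * ((a : G) * x) * m = (m⁻¹ * a * m) * (m⁻¹ * x * m) by group, hmt]
  rcases h.conj_inV hn h.inV_b with hh | hh | hh | hh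
  · exact absurd (show (b : G) = 1 by
      calc (b : G) = n⁻¹ * (n * b * n⁻¹) * n := by group
        _ = 1 := by rw [hh]; group) h.b_ne
  · exact absurd (show (a : G) = b by
      calc (a : G) = n⁻¹ * (n * a * n⁻¹) * n := by group
        _ = n⁻¹ * a * n := by rw [hna]
        _ = b := by rw [← hh]; group) h.a_ne_b
  · exact hh
  exfalso
  by_cases hb : InV (a : G) b (m⁻¹ * b * m)
  · have := hmul _ _ (hh ▸ hPn b hb) hb
    rw [show (a : G) * b * b = a by rw [mul_assoc, h.inV_sq h.inV_b, mul_one]] at this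
    exact ha' this
  · have h1 := hPn _ (hsplit b h.b_mem_E hb)
    rw [show n * (a * (b : G)) * n⁻¹ = (n * a * n⁻¹) * (n * b * n⁻¹) by group, hna, hh,
      ← mul_assoc (a : G) a, h.inV_sq h.inV_a, one_mul] at h1
    exact hb h1

theorem mem_R_of_fix_a {n : G} (hn : n ∈ centralizer ({t} : Set G) ⊓ NE t a b)
    (hna : n * a * n⁻¹ = a) : n ∈ Rgrp t a b :=
  h.mem_R_of_gen (by rw [mem_centralizer_singleton_iff.mp hn.1, mul_inv_cancel_right]) hna
    (h.fix_b hn hna)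

/-- The stabiliser of `t` is `C(⟨t, a, b⟩)⟨c⟩`. -/
theorem stab_cases {n : G} (hn : n ∈ centralizer ({t} : Set G) ⊓ NE t a b) :
    n ∈ Rgrp t a b ∨ (c : G)⁻¹ * n ∈ Rgrp t a b ∨ (c : G) * n ∈ Rgrp t a b := by
  rcases h.conj_inV hn h.inV_a with hh | hh | hh | hh
  · exact absurd (show (a : G) = 1 by
      calc (a : G) = n⁻¹ * (n * a * n⁻¹) * n := by group
        _ = 1 := by rw [hh]; group) h.a_ne
  · exact Or.inl (h.mem_R_of_fix_a hn hh)
  · refine Or.inr (Or.inl (h.mem_R_of_fix_a (mul_mem (inv_mem h.c_mem) hn) ?_))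
    calc (c : G)⁻¹ * n * a * ((c : G)⁻¹ * n)⁻¹ = (c : G)⁻¹ * (n * a * n⁻¹) * c := by group
      _ = a := by rw [hh, ← h.ca']; group
  · refine Or.inr (Or.inr (h.mem_R_of_fix_a (mul_mem h.c_mem hn) ?_))
    calc (c : G) * n * a * ((c : G) * n)⁻¹ = (c : G) * (n * a * n⁻¹) * (c : G)⁻¹ := by group
      _ = a := by rw [hh, h.cab']

theorem stab_cube {n : G} (hn : n ∈ centralizer ({t} : Set G) ⊓ NE t a b) :
    n ^ 3 ∈ Rgrp t a b := by
  have key : ∀ d : G, d ∈ NE t a b → d ^ 3 = 1 → ∀ r ∈ Rgrp t a b, (d * r) ^ 3 ∈ Rgrp t a b := by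
    intro d hd hd3 r hr
    rw [show (d * r) ^ 3 = (d * r * d⁻¹) * ((d * d) * r * (d * d)⁻¹) * (d ^ 3) * r by
      simp [pow_succ, mul_assoc], hd3, mul_one]
    exact mul_mem (mul_mem (h.conj_mem_R hd hr) (h.conj_mem_R (mul_mem hd hd) hr)) hr
  have hc3 : (c : G) ^ 3 = 1 := congrArg Subtype.val h.facts.c3
  rcases h.stab_cases hn with hh | hh | hh
  · exact pow_mem hh 3
  · have := key c h.c_mem.2 hc3 _ hh
    rwa [mul_inv_cancel_left] at this
  · have := key (c : G)⁻¹ (inv_mem h.c_mem.2) (by rw [inv_pow, hc3, inv_one]) _ hh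
    rwa [inv_mul_cancel_left] at this

/-- An element of order prime to 3 fixing an involution of `⟨t, a, b⟩` centralises it. -/
theorem mem_R_of_pow {n : G} (hn : n ∈ NE t a b) {e : G} (he : e ∈ Egrp t a b) (he1 : e ≠ 1)
    (hne : n * e * n⁻¹ = e) {k : ℕ} (hk : Nat.Coprime 3 k) (hnk : n ^ k = 1) :
    n ∈ Rgrp t a b := by
  obtain ⟨m, hm, rfl⟩ := h.exists_NE he he1
  have hq : m⁻¹ * n * m ∈ centralizer ({t} : Set G) ⊓ NE t a b := by
    refine mem_inf.mpr ⟨mem_centralizer_singleton_iff.mpr ?_, mul_mem (mul_mem (inv_mem hm) hn) hm⟩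
    calc m⁻¹ * n * m * t = m⁻¹ * (n * (m * t * m⁻¹) * n⁻¹) * n * m := by group
      _ = t * (m⁻¹ * n * m) := by rw [hne]; group
  have hqk : (m⁻¹ * n * m) ^ k = 1 := by
    rw [show m⁻¹ * n * m = m⁻¹ * n * m⁻¹⁻¹ by group, conj_pow, hnk]; group
  have := h.conj_mem_R hm (mem_of_pow_mem hk (h.stab_cube hq) (hqk ▸ one_mem _))
  rwa [show m * (m⁻¹ * n * m) * m⁻¹ = n by group] at this

theorem L_top {S : Subgroup L} (ha : a ∈ S) (hy : y ∈ S) : S = ⊤ := by
  obtain ⟨e⟩ := h.isoA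
  haveI : IsSimpleGroup (alternatingGroup (Fin 5)) := alternatingGroup.isSimpleGroup_five
  haveI : IsSimpleGroup L := e.isSimpleGroup
  haveI : Fact (Nat.Prime 3) := ⟨Nat.prime_three⟩
  haveI : Fact (Nat.Prime 5) := ⟨Nat.prime_five⟩
  have hdvd : ∀ x ∈ S, orderOf x ∣ Nat.card S := fun x hx => Subgroup.orderOf_dvd_natCard S hx
  have h2 : 2 ∣ Nat.card S := by
    have := hdvd a ha
    rwa [orderOf_eq_two.mpr ⟨h.facts.ha, h.facts.ha1⟩] at this
  have h3 : 3 ∣ Nat.card S := by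
    have := hdvd y hy
    rwa [orderOf_eq_prime h.facts.y3 h.facts.y1] at this
  have h5 : 5 ∣ Nat.card S := by
    have := hdvd _ (mul_mem ha hy)
    rwa [orderOf_eq_prime h.facts.ay5 h.facts.ay1] at this
  have h30 : 30 ∣ Nat.card S :=
    Nat.Coprime.mul_dvd_of_dvd_of_dvd (m := 6) (n := 5) (by decide)
      (Nat.Coprime.mul_dvd_of_dvd_of_dvd (m := 2) (n := 3) (by decide) h2 h3) h5
  have hmul := card_mul_index S
  rw [h.card_L] at hmul
  obtain ⟨j, hj⟩ := h30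
  rw [hj] at hmul
  have hj2 : j * S.index = 2 := by rw [mul_assoc] at hmul; omega
  rcases (Nat.dvd_prime Nat.prime_two).mp (Dvd.intro_left j hj2) with hi | hi
  · exact index_eq_one.mp hi
  · rcases IsSimpleGroup.eq_bot_or_eq_top_of_normal S (normal_of_index_eq_two hi) with hS | hS
    · rw [hS, mem_bot] at ha; exact absurd ha h.facts.ha1
    · exact hS

theorem inV_comm_K {v k : G} (hv : InV (a : G) b v) (hk : k ∈ Kgrp t L) : v * k = k * v :=
  mem_centralizer_iff.mp hk.2 v (h.inV_L hv)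

theorem K_le_R : Kgrp t L ≤ Rgrp t a b := fun k hk => by
  refine h.mem_R_of_gen ?_ ?_ ?_
  · rw [mem_centralizer_singleton_iff.mp hk.1, mul_inv_cancel_right]
  · rw [← h.inV_comm_K h.inV_a hk, mul_inv_cancel_right]
  · rw [← h.inV_comm_K h.inV_b hk, mul_inv_cancel_right]

theorem t_mem_K : t ∈ Kgrp t L :=
  ⟨mem_centralizer_singleton_iff.mpr rfl, mem_centralizer_iff.mpr fun l hl => (h.Lcomm l hl).symm⟩

/-- `C(⟨t, a, b⟩) = ⟨a, b⟩ × K`. -/
theorem exists_VK {x : G} (hx : x ∈ Rgrp t a b) :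
    ∃ v, InV (a : G) b v ∧ v⁻¹ * x ∈ Kgrp t L := by
  have hxC := h.R_le_C hx
  have hxa : x * a * x⁻¹ = a := by
    rw [← mem_centralizer_iff.mp hx _ h.a_mem_E, mul_inv_cancel_right]
  have hxb : x * b * x⁻¹ = b := by
    rw [← mem_centralizer_iff.mp hx _ h.b_mem_E, mul_inv_cancel_right]
  set z : L := ⟨x * y * x⁻¹, h.conj_mem_L hxC y.2⟩ with hz
  have hy3 : (y : G) ^ 3 = 1 := congrArg Subtype.val h.facts.y3
  have hay : ((a : G) * y) ^ 5 = 1 := congrArg Subtype.val h.facts.ay5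
  have hw : word (a : G) y = b := congrArg Subtype.val h.facts.word_eq
  have h1 : z ^ 3 = 1 := Subtype.ext (by
    change (x * (y : G) * x⁻¹) ^ 3 = 1
    rw [conj_pow, hy3]; group)
  have h2 : (a * z) ^ 5 = 1 := Subtype.ext (by
    change ((a : G) * (x * y * x⁻¹)) ^ 5 = 1
    rw [show (a : G) * (x * y * x⁻¹) = (x * a * x⁻¹) * (x * y * x⁻¹) by rw [hxa],
      show x * (a : G) * x⁻¹ * (x * y * x⁻¹) = x * (a * y) * x⁻¹ by group, conj_pow, hay]
    group)
  have h3 : word a z = b := Subtype.ext (by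
    change word (a : G) (x * y * x⁻¹) = b
    calc word (a : G) (x * y * x⁻¹) = word (x * a * x⁻¹) (x * y * x⁻¹) := by rw [hxa]
      _ = x * word (a : G) y * x⁻¹ := by simp only [word]; group
      _ = b := by rw [hw, hxb])
  obtain ⟨v, hv, hvy⟩ : ∃ v, InV (a : G) b v ∧ x * y * x⁻¹ = v * y * v := by
    rcases h.facts.rigid z h1 h2 h3 with hh | hh | hh | hh
    · exact ⟨1, Or.inl rfl, by rw [one_mul, mul_one]; exact congrArg Subtype.val hh⟩
    · exact ⟨a, h.inV_a, congrArg Subtype.val hh⟩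
    · exact ⟨b, h.inV_b, congrArg Subtype.val hh⟩
    · exact ⟨a * b, Or.inr (Or.inr (Or.inr rfl)), congrArg Subtype.val hh⟩
  refine ⟨v, hv, ?_⟩
  have hvL := h.inV_L hv
  set r := v⁻¹ * x with hr
  have hrC : r ∈ centralizer ({t} : Set G) := mul_mem (inv_mem (h.L_le_C hvL)) hxC
  refine ⟨hrC, ?_⟩
  have hS := h.L_top (S := (centralizer ({r} : Set G)).subgroupOf L)
    (by
      rw [mem_subgroupOf, mem_centralizer_singleton_iff]
      calc (a : G) * r = v⁻¹ * (v * a) * v⁻¹ * x := by rw [hr]; group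
        _ = v⁻¹ * (a * v) * v⁻¹ * x := by rw [h.inV_comm hv h.inV_a]
        _ = v⁻¹ * (x * a * x⁻¹) * x := by rw [hxa]; group
        _ = r * a := by rw [hr]; group)
    (by
      rw [mem_subgroupOf, mem_centralizer_singleton_iff]
      calc (y : G) * r = v⁻¹ * (v * y * v) * (v * v)⁻¹ * x := by rw [hr]; group
        _ = v⁻¹ * (x * y * x⁻¹) * x := by rw [h.inV_sq hv, ← hvy]; group
        _ = r * y := by rw [hr]; group)
  refine mem_centralizer_iff.mpr fun l hl => ?_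
  have : (⟨l, hl⟩ : L) ∈ (centralizer ({r} : Set G)).subgroupOf L := hS ▸ mem_top _
  exact mem_centralizer_singleton_iff.mp (mem_subgroupOf.mp this)

theorem inV_K_eq_one {v : G} (hv : InV (a : G) b v) (hk : v ∈ Kgrp t L) : v = 1 := by
  have hvc : (c : G) * v * (c : G)⁻¹ = v := by
    rw [mem_centralizer_iff.mp hk.2 c c.2, mul_inv_cancel_right]
  rcases hv with rfl | rfl | rfl | rfl
  · rfl
  · exact absurd (hvc.symm.trans h.ca') h.a_ne_b
  · exact absurd (mul_eq_right.mp (hvc.symm.trans h.cb').symm) h.a_ne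
  · exact absurd (mul_eq_left.mp (hvc.symm.trans h.cab')) h.b_ne

theorem VK_unique {v v' k k' : G} (hv : InV (a : G) b v) (hv' : InV (a : G) b v')
    (hk : k ∈ Kgrp t L) (hk' : k' ∈ Kgrp t L) (he : v * k = v' * k') : v = v' := by
  have h1 : v' * v = k' * k⁻¹ := by
    calc v' * v = v' * (v * k) * k⁻¹ := by group
      _ = (v' * v') * k' * k⁻¹ := by rw [he]; group
      _ = k' * k⁻¹ := by rw [h.inV_sq hv', one_mul]
  have h2 := h.inV_K_eq_one (h.inV_mul hv' hv) (h1 ▸ mul_mem hk' (inv_mem hk))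
  rw [← inv_eq_of_mul_eq_one_right h2, inv_eq_of_mul_eq_one_right (h.inV_sq hv')]

theorem conj_mem_K {n k : G} (hn : n ∈ centralizer ({t} : Set G)) (hk : k ∈ Kgrp t L) :
    n * k * n⁻¹ ∈ Kgrp t L := by
  refine mem_inf.mpr ⟨mul_mem (mul_mem hn hk.1) (inv_mem hn), mem_centralizer_iff.mpr fun l hl => ?_⟩
  have h1 := h.conj_mem_L (inv_mem hn) hl
  have h2 := mem_centralizer_iff.mp hk.2 _ h1
  calc l * (n * k * n⁻¹) = n * ((n⁻¹ * l * n⁻¹⁻¹) * k) * n⁻¹ := by group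
    _ = n * (k * (n⁻¹ * l * n⁻¹⁻¹)) * n⁻¹ := by rw [h2]
    _ = n * k * n⁻¹ * l := by group

theorem Cgrp_le : Cgrp t a b c ≤ NE t a b := (closure_le _).mpr fun _ ⟨_, hm, hx⟩ =>
  hx ▸ mul_mem (mul_mem hm h.c_mem.2) (inv_mem hm)

theorem conj_mem_Cgrp {m x : G} (hm : m ∈ NE t a b) (hx : x ∈ Cgrp t a b c) :
    m * x * m⁻¹ ∈ Cgrp t a b c :=
  conj_closure (E := Cgrp t a b c) (S := {x | ∃ q ∈ NE t a b, q * (c : G) * q⁻¹ = x})
    (fun _ ⟨q, hq, he⟩ => subset_closure ⟨m * q, mul_mem hm hq, by rw [← he]; group⟩) hx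

/-- The conjugates of `c` act trivially on `C(E) / E`. -/
theorem Cgrp_trivial {n x : G} (hn : n ∈ Cgrp t a b c) (hx : x ∈ Rgrp t a b) :
    n * x * n⁻¹ * x⁻¹ ∈ Egrp t a b := by
  induction hn using closure_induction generalizing x with
  | mem u hu =>
    obtain ⟨m, hm, rfl⟩ := hu
    obtain ⟨v, hv, hk⟩ := h.exists_VK (h.conj_mem_R (inv_mem hm) hx)
    rw [inv_inv] at hk
    have hck := mem_centralizer_iff.mp hk.2 c c.2
    set k := v⁻¹ * (m⁻¹ * x * m) with hk'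
    have e : (c : G) * v * (c : G)⁻¹ * v⁻¹ ∈ Egrp t a b :=
      mul_mem (h.conj_mem_E h.c_mem.2 (h.mem_E_iff.mpr (Or.inl hv)))
        (inv_mem (h.mem_E_iff.mpr (Or.inl hv)))
    have hx' : x = m * (v * k) * m⁻¹ := by rw [hk']; group
    have := h.conj_mem_E hm e
    rwa [show m * ((c : G) * v * (c : G)⁻¹ * v⁻¹) * m⁻¹ =
      m * c * m⁻¹ * x * (m * c * m⁻¹)⁻¹ * x⁻¹ by
        rw [hx', show m * (c : G) * m⁻¹ * (m * (v * k) * m⁻¹) * (m * c * m⁻¹)⁻¹ * (m * (v * k) * m⁻¹)⁻¹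
          = m * (c * v * ((k * (c : G)⁻¹) * k⁻¹) * v⁻¹) * m⁻¹ by group,
          show k * (c : G)⁻¹ * k⁻¹ = ((c : G) * k * (c : G)⁻¹ * k⁻¹)⁻¹ * ((c : G) * k * (c : G)⁻¹ * k⁻¹) * (k * (c : G)⁻¹ * k⁻¹) by group]
        rw [show ((c : G) * k * (c : G)⁻¹ * k⁻¹)⁻¹ * ((c : G) * k * (c : G)⁻¹ * k⁻¹) * (k * (c : G)⁻¹ * k⁻¹) = k * (c : G)⁻¹ * k⁻¹ by group,
          (Commute.inv_right (hck.symm : Commute k c)).eq, mul_inv_cancel_right]] at this
  | one => simp
  | mul u v hu hv hu' hv' =>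
    have h1 := h.conj_mem_E (h.Cgrp_le hu) (hv' hx)
    have := mul_mem h1 (hu' hx)
    rwa [show u * (v * x * v⁻¹ * x⁻¹) * u⁻¹ * (u * x * u⁻¹ * x⁻¹) =
      u * v * x * (u * v)⁻¹ * x⁻¹ by group] at this
  | inv u hu hu' =>
    have := inv_mem (hu' (h.conj_mem_R (inv_mem (h.Cgrp_le hu)) hx))
    rwa [show (u * (u⁻¹ * x * u⁻¹⁻¹) * u⁻¹ * (u⁻¹ * x * u⁻¹⁻¹)⁻¹)⁻¹ = u⁻¹ * x * u⁻¹⁻¹ * x⁻¹ by
      group] at this

theorem c_mem_Cgrp : (c : G) ∈ Cgrp t a b c :=
  subset_closure ⟨1, one_mem _, by simp⟩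

/-- The conjugates of `c` generate a transitive subgroup. -/
theorem exists_Cgrp {m : G} (hm : m ∈ NE t a b) :
    ∃ n ∈ Cgrp t a b c, n⁻¹ * m ∈ centralizer ({t} : Set G) ⊓ NE t a b := by
  set H0 := centralizer ({t} : Set G) ⊓ NE t a b with hH0
  have hU : Cgrp t a b c ⊔ H0 ≤ NE t a b := sup_le h.Cgrp_le inf_le_right
  have h1 := relIndex_mul_relIndex H0 (Cgrp t a b c ⊔ H0) (NE t a b) le_sup_right hU
  rw [h.relIndex_seven] at h1
  have htop : Cgrp t a b c ⊔ H0 = NE t a b := by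
    rcases (Nat.dvd_prime (by norm_num)).mp (Dvd.intro_left _ h1) with h2 | h2
    · exact le_antisymm hU (relIndex_eq_one.mp h2)
    exfalso
    rw [h2] at h1
    have h3 : Cgrp t a b c ⊔ H0 ≤ H0 := relIndex_eq_one.mp (by omega)
    obtain ⟨n, hn, hna⟩ := h.exists_NE h.a_mem_E h.a_ne
    have h4 := (mem_inf.mp (h3 (le_sup_left (a := Cgrp t a b c)
      (h.conj_mem_Cgrp (inv_mem hn) h.c_mem_Cgrp)))).1
    refine h.a_ne_b (Eq.trans ?_ h.ca')
    rw [mem_centralizer_singleton_iff] at h4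
    rw [← hna]
    calc n * t * n⁻¹ = n * (t * (n⁻¹ * c * n⁻¹⁻¹)) * (n⁻¹ * c * n⁻¹⁻¹)⁻¹ * n⁻¹ := by group
      _ = c * (n * t * n⁻¹) * (c : G)⁻¹ := by rw [← h4]; group
  have hn : H0 ≤ normalizer (Cgrp t a b c : Set G) := fun x hx =>
    mem_normalizer_of_conj fun _ hz => h.conj_mem_Cgrp hx.2 hz
  have hm' : m ∈ (Cgrp t a b c ⊔ H0 : Subgroup G) := htop.symm ▸ hm
  rw [← SetLike.mem_coe, coe_mul_of_right_le_normalizer_left _ _ hn] at hm'
  obtain ⟨n, hn', q, hq, rfl⟩ := hm'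
  exact ⟨n, hn', by simpa using hq⟩

theorem exists_seven : ∃ r ∈ Cgrp t a b c, (∃ k, r ^ 7 ^ k = 1) ∧
    r ∉ centralizer ({t} : Set G) := by
  haveI : Fact (Nat.Prime 7) := ⟨by norm_num⟩
  set H0 := centralizer ({t} : Set G) ⊓ NE t a b with hH0
  have h7 : (H0.subgroupOf (Cgrp t a b c)).index = 7 := by
    rw [← relIndex, ← relIndex_eq_of_factor h.Cgrp_le fun x hx => h.exists_Cgrp hx]
    exact h.relIndex_seven
  let Q : Sylow 7 (Cgrp t a b c) := default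
  obtain ⟨r, hr, hr'⟩ : ∃ r ∈ (Q : Subgroup (Cgrp t a b c)), r ∉ H0.subgroupOf (Cgrp t a b c) := by
    by_contra hno
    push Not at hno
    have h8 := index_dvd_of_le hno
    rw [h7] at h8
    exact Q.not_dvd_index h8
  obtain ⟨k, hk⟩ := Q.isPGroup' ⟨r, hr⟩
  refine ⟨r, r.2, ⟨k, ?_⟩, fun hh => hr' ⟨hh, h.Cgrp_le r.2⟩⟩
  exact congrArg (fun u : (Q : Subgroup (Cgrp t a b c)) => ((u : Cgrp t a b c) : G)) hk

/-- The powers of `r` are transitive on the involutions of `⟨t, a, b⟩`. -/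
theorem exists_pow {r : G} (hr : r ∈ NE t a b) {k : ℕ} (hrk : r ^ 7 ^ k = 1)
    (hrt : r ∉ centralizer ({t} : Set G)) {e : G} (he : e ∈ Egrp t a b) (he1 : e ≠ 1) :
    ∃ i : ℕ, r ^ i * t * (r ^ i)⁻¹ = e := by
  have hfix : ∀ d : ℕ, 0 < d → d < 7 → r ^ d * t * (r ^ d)⁻¹ ≠ t := by
    intro d hd0 hd7 hh
    refine hrt (h.R_le_C ?_)
    have hd : r ^ d ∈ Rgrp t a b := h.mem_R_of_pow (pow_mem hr d) h.t_mem_E h.t_ne hh
      (Nat.Coprime.pow_right k (by norm_num : Nat.Coprime 3 7))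
      (by rw [← pow_mul, mul_comm, pow_mul, hrk, one_pow])
    refine mem_of_pow_mem (m := d) (n := 7 ^ k) (Nat.Coprime.pow_right k ?_) hd
      (hrk ▸ one_mem _)
    rw [Nat.coprime_comm, Nat.Prime.coprime_iff_not_dvd (by norm_num)]
    exact fun hh' => absurd (Nat.le_of_dvd hd0 hh') (by omega)
  let f : Fin 7 → {e : G // e ∈ ((Egrp t a b : Subgroup G) : Set G) \ {1}} := fun i =>
    ⟨r ^ (i : ℕ) * t * (r ^ (i : ℕ))⁻¹, h.conj_mem_E (pow_mem hr _) h.t_mem_E,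
      fun hh => h.t_ne (by simpa using Set.mem_singleton_iff.mp hh)⟩
  have hinj : Function.Injective f := by
    have key : ∀ i j : Fin 7, (i : ℕ) < j → f i ≠ f j := by
      intro i j hij hh
      have hh' : r ^ (i : ℕ) * t * (r ^ (i : ℕ))⁻¹ = r ^ (j : ℕ) * t * (r ^ (j : ℕ))⁻¹ :=
        congrArg Subtype.val hh
      obtain ⟨d, hd⟩ := Nat.exists_eq_add_of_le hij.le
      refine hfix d (by omega) (by omega) ?_
      rw [hd, pow_add] at hh'
      calc r ^ d * t * (r ^ d)⁻¹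
          = (r ^ (i : ℕ))⁻¹ * (r ^ (i : ℕ) * r ^ d * t * (r ^ (i : ℕ) * r ^ d)⁻¹) * r ^ (i : ℕ) := by
            group
        _ = t := by rw [← hh']; group
    intro i j hij
    rcases lt_trichotomy (i : ℕ) j with hlt | heq | hgt
    exacts [absurd hij (key i j hlt), Fin.ext heq, absurd hij.symm (key j i hgt)]
  have hcard : Nat.card {e : G // e ∈ ((Egrp t a b : Subgroup G) : Set G) \ {1}} = Nat.card (Fin 7) := by
    rw [Nat.card_fin, Nat.card_coe_set_eq,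
      Set.ncard_sdiff_singleton_of_mem (one_mem (Egrp t a b)), ← Nat.card_coe_set_eq]
    change Nat.card (Egrp t a b) - 1 = 7
    rw [h.card_E]
  obtain ⟨i, hi⟩ := (hinj.bijective_of_nat_card_le hcard.le).2 ⟨e, he, by simpa using he1⟩
  exact ⟨i, congrArg Subtype.val hi⟩

/-- An element of `C(E)` centralised by `r` lies in `X`. -/
theorem mem_X_of_fix {r : G} (hr : r ∈ NE t a b) {k : ℕ} (hrk : r ^ 7 ^ k = 1)
    (hrt : r ∉ centralizer ({t} : Set G)) {x : G} (hx : x ∈ Rgrp t a b)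
    (hxr : Commute r x) : x ∈ Xgrp t a b := by
  have hxK : x ∈ Kgrp t L := by
    obtain ⟨v, hv, hk⟩ := h.exists_VK hx
    suffices hv1 : v = 1 by rw [hv1, inv_one, one_mul] at hk; exact hk
    by_contra hv1
    set q := v⁻¹ * x with hq
    have hxq : x = v * q := by rw [hq]; group
    have hvE : v ∈ Egrp t a b := h.mem_E_iff.mpr (Or.inl hv)
    set w := (c : G) * v * (c : G)⁻¹ * v with hw
    have hwV : InV (a : G) b w := h.inV_mul (h.conj_inV h.c_mem hv) hv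
    have hwE : w ∈ Egrp t a b := h.mem_E_iff.mpr (Or.inl hwV)
    have hcq : (c : G) * q * (c : G)⁻¹ = q := by
      rw [mem_centralizer_iff.mp hk.2 c c.2, mul_inv_cancel_right]
    have hcx : (c : G) * x * (c : G)⁻¹ = w * x := by
      rw [hxq, show (c : G) * (v * q) * (c : G)⁻¹ = (c * v * (c : G)⁻¹) * (c * q * (c : G)⁻¹) by group,
        hcq, hw, mul_assoc ((c : G) * v * (c : G)⁻¹) v, ← mul_assoc v v, h.inV_sq hv, one_mul]
    have hw1 : w ≠ 1 := by
      intro hh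
      have hcv : (c : G) * v * (c : G)⁻¹ = v := by
        rw [eq_inv_of_mul_eq_one_left hh, inv_eq_of_mul_eq_one_right (h.inV_sq hv)]
      rcases hv with rfl | rfl | rfl | rfl
      · exact hv1 rfl
      · exact h.a_ne_b (hcv.symm.trans h.ca')
      · exact h.a_ne (mul_eq_right.mp (hcv.symm.trans h.cb').symm)
      · exact h.b_ne (mul_eq_left.mp (hcv.symm.trans h.cab'))
    obtain ⟨i₁, hi₁⟩ := h.exists_pow hr hrk hrt hwE hw1
    obtain ⟨i₂, hi₂⟩ := h.exists_pow hr hrk hrt hvE hv1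
    set p := r ^ i₂ * (r ^ i₁)⁻¹ with hp
    have hpN : p ∈ NE t a b := mul_mem (pow_mem hr _) (inv_mem (pow_mem hr _))
    have hpx : Commute p x := (hxr.pow_left _).mul_left (hxr.pow_left _).inv_left
    have hpw : p * w * p⁻¹ = v := by rw [hp, ← hi₁, ← hi₂]; group
    set e := (c : G)⁻¹ * (p⁻¹ * t * p) * c with he
    have heE : e ∈ Egrp t a b := by
      have := h.conj_mem_E (inv_mem h.c_mem.2) (h.conj_mem_E (inv_mem hpN) h.t_mem_E)
      simpa [he] using this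
    have he1 : e ≠ 1 := fun hh => h.t_ne (by
      calc t = p * (c : G) * e * (p * c)⁻¹ := by rw [he]; group
        _ = 1 := by rw [hh]; group)
    obtain ⟨i, hi⟩ := h.exists_pow hr hrk hrt heE he1
    set g := p * (c : G) * r ^ i with hg
    have hgH : g ∈ centralizer ({t} : Set G) ⊓ NE t a b := by
      refine mem_inf.mpr ⟨mem_centralizer_singleton_iff.mpr ?_, mul_mem (mul_mem hpN h.c_mem.2) (pow_mem hr _)⟩
      calc g * t = p * (c : G) * (r ^ i * t * (r ^ i)⁻¹) * r ^ i := by rw [hg]; group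
        _ = t * g := by rw [hi, he, hg]; group
    have hgx : g * x * g⁻¹ = q := by
      calc g * x * g⁻¹ = p * ((c : G) * (r ^ i * x * (r ^ i)⁻¹) * (c : G)⁻¹) * p⁻¹ := by
            rw [hg]; group
        _ = p * ((c : G) * x * (c : G)⁻¹) * p⁻¹ := by
            rw [(hxr.pow_left i).eq, mul_inv_cancel_right]
        _ = (p * w * p⁻¹) * (p * x * p⁻¹) := by rw [hcx]; group
        _ = v * x := by rw [hpw, hpx.eq, mul_inv_cancel_right]
        _ = q := by rw [hxq, ← mul_assoc, h.inV_sq hv, one_mul]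
    have hgv := h.conj_inV hgH hv
    have hgq := h.conj_mem_K hgH.1 hk
    have h1 : g * v * g⁻¹ * (g * q * g⁻¹) = 1 * q := by
      rw [one_mul]
      calc g * v * g⁻¹ * (g * q * g⁻¹) = g * (v * q) * g⁻¹ := by group
        _ = q := by rw [← hxq, hgx]
    have h2 := h.VK_unique hgv (Or.inl rfl) hgq hk h1
    exact hv1 (by
      calc v = g⁻¹ * (g * v * g⁻¹) * g := by group
        _ = 1 := by rw [h2]; group)
  rw [mem_Xgrp]
  intro n hn
  obtain ⟨i, hi⟩ := h.exists_pow hr hrk hrt (h.conj_mem_E (inv_mem hn) h.t_mem_E)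
    (fun hh => h.t_ne (by
      calc t = n * (n⁻¹ * t * n⁻¹⁻¹) * n⁻¹ := by group
        _ = 1 := by rw [hh]; group))
  have hq : n * r ^ i ∈ centralizer ({t} : Set G) := mem_centralizer_singleton_iff.mpr (by
    calc n * r ^ i * t = n * (r ^ i * t * (r ^ i)⁻¹) * r ^ i := by group
      _ = t * (n * r ^ i) := by rw [hi]; group)
  have := h.conj_mem_K hq hxK
  rwa [show n * r ^ i * x * (n * r ^ i)⁻¹ = n * (r ^ i * x * (r ^ i)⁻¹) * n⁻¹ by group,
    (hxr.pow_left i).eq, mul_inv_cancel_right] at this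

theorem E_K {x : G} (hx : x ∈ Egrp t a b) (hxK : x ∈ Kgrp t L) : x = 1 ∨ x = t := by
  rcases h.mem_E_iff.mp hx with hv | hv
  · exact Or.inl (h.inV_K_eq_one hv hxK)
  · refine Or.inr ?_
    have := h.inV_K_eq_one hv (mul_mem h.t_mem_K hxK)
    rw [← inv_eq_of_mul_eq_one_right this, h.invt]

/-- `K = ⟨t⟩ X`. -/
theorem exists_KX {k : G} (hk : k ∈ Kgrp t L) :
    k ∈ Xgrp t a b ∨ t * k ∈ Xgrp t a b := by
  obtain ⟨r, hrC, ⟨j, hrj⟩, hrt⟩ := h.exists_seven
  haveI : Fact (Nat.Prime 7) := ⟨by norm_num⟩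
  have hkR := h.K_le_R hk
  let S := {z : G // z ∈ Rgrp t a b ∧ k⁻¹ * z ∈ Egrp t a b}
  have hconj : ∀ (g : G), g ∈ zpowers r → ∀ z : G, z ∈ Rgrp t a b → k⁻¹ * z ∈ Egrp t a b →
      g * z * g⁻¹ ∈ Rgrp t a b ∧ k⁻¹ * (g * z * g⁻¹) ∈ Egrp t a b := by
    intro g hg z hz hzk
    have hgC : g ∈ Cgrp t a b c := zpowers_le.mpr hrC hg
    refine ⟨h.conj_mem_R (h.Cgrp_le hgC) hz, ?_⟩
    have h1 := mul_mem (h.Cgrp_trivial hgC hz) hzk
    have hR : g * z * g⁻¹ * z⁻¹ * (k⁻¹ * z) = k⁻¹ * (g * z * g⁻¹) := by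
      have hc := mem_centralizer_iff.mp (inv_mem hkR) _ (h.Cgrp_trivial hgC hz)
      rw [← mul_assoc, hc]; group
    rwa [hR] at h1
  letI : MulAction (zpowers r) S :=
    { smul := fun g z => ⟨(g : G) * z.1 * (g : G)⁻¹, hconj g g.2 z.1 z.2.1 z.2.2⟩
      one_smul := fun z => Subtype.ext (show (1 : G) * z.1 * (1 : G)⁻¹ = z.1 by simp)
      mul_smul := fun g g' z => Subtype.ext (show ((g : G) * g') * z.1 * ((g : G) * g')⁻¹ =
        (g : G) * ((g' : G) * z.1 * (g' : G)⁻¹) * (g : G)⁻¹ by group) }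
  have hcard : Nat.card S = 8 := by
    rw [← h.card_E]
    exact Nat.card_congr
      { toFun := fun z => ⟨k⁻¹ * z.1, z.2.2⟩
        invFun := fun e => ⟨k * e, mul_mem hkR (h.E_le_R e.2), by simp⟩
        left_inv := fun z => Subtype.ext (by simp)
        right_inv := fun e => Subtype.ext (by simp) }
  have hp : IsPGroup 7 (zpowers r) := by
    rintro ⟨g, hg⟩
    obtain ⟨i, rfl⟩ := mem_zpowers_iff.mp hg
    refine ⟨j, Subtype.ext ?_⟩
    change (r ^ i) ^ 7 ^ j = 1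
    rw [← zpow_natCast, ← zpow_mul, mul_comm, zpow_mul, zpow_natCast, hrj, one_zpow]
  obtain ⟨⟨z, hzR, hzk⟩, hz⟩ := hp.nonempty_fixed_point_of_prime_not_dvd_card S
    (by rw [hcard]; norm_num)
  have hzr : Commute r z := by
    have h1 : r * z * r⁻¹ = z := congrArg Subtype.val (hz ⟨r, mem_zpowers r⟩)
    calc r * z = (r * z * r⁻¹) * r := by group
      _ = z * r := by rw [h1]
  have hzX := h.mem_X_of_fix (h.Cgrp_le hrC) hrj hrt hzR hzr
  have hzK : z ∈ Kgrp t L := by simpa using mem_Xgrp.mp hzX 1 (one_mem _)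
  rcases h.E_K hzk (mul_mem (inv_mem hk) hzK) with hh | hh
  · left
    rwa [inv_mul_eq_one.mp hh]
  · right
    have : z = t * k := by
      rw [← mem_centralizer_singleton_iff.mp hk.1, ← hh, mul_inv_cancel_left]
    exact this ▸ hzX

theorem X_le_K : Xgrp t a b ≤ Kgrp t L := fun x hx => by simpa using mem_Xgrp.mp hx 1 (one_mem _)

theorem t_notMem_X : t ∉ Xgrp t a b := fun hh => by
  obtain ⟨n, hn, hna⟩ := h.exists_NE h.a_mem_E h.a_ne
  exact h.a_ne (h.inV_K_eq_one h.inV_a (hna ▸ mem_Xgrp.mp hh n hn))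

theorem X_W {x : G} (hx : x ∈ Xgrp t a b) (hxW : x ∈ closure (conjs t)) : x = 1 := by
  have key : ∀ u ∈ L, u ∈ Kgrp t L → u = 1 := by
    intro u hu huK
    have h1 := h.facts.cent ⟨u, hu⟩
      (Subtype.ext (mem_centralizer_iff.mp huK.2 _ a.2).symm)
      (Subtype.ext (mem_centralizer_iff.mp huK.2 _ b.2).symm)
    exact h.inV_K_eq_one (inV_coe.mpr h1 : InV (a : G) b ((⟨u, hu⟩ : L) : G)) huK
  rcases h.mem_W_iff.mp hxW with hl | hl
  · exact key x hl (h.X_le_K hx)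
  · have h1 := key _ hl (mul_mem h.t_mem_K (h.X_le_K hx))
    have : x = t := by rw [← inv_eq_of_mul_eq_one_right h1, h.invt]
    exact absurd (this ▸ hx) h.t_notMem_X

/-- `C(t) = W X`. -/
theorem exists_WX {x : G} (hx : x ∈ centralizer ({t} : Set G)) :
    ∃ w ∈ closure (conjs t), w⁻¹ * x ∈ Xgrp t a b := by
  have hR : ∀ r ∈ Rgrp t a b, ∃ w ∈ closure (conjs t), w⁻¹ * r ∈ Xgrp t a b := by
    intro r hr
    obtain ⟨v, hv, hk⟩ := h.exists_VK hr
    rcases h.exists_KX hk with hX | hX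
    · exact ⟨v, h.L_le_W (h.inV_L hv), hX⟩
    · refine ⟨v * t, mul_mem (h.L_le_W (h.inV_L hv)) h.t_mem_W, ?_⟩
      rwa [mul_inv_rev, h.invt, mul_assoc]
  have hstep : ∀ l ∈ L, ∀ z : G, (∃ w ∈ closure (conjs t), w⁻¹ * (l⁻¹ * z) ∈ Xgrp t a b) →
      ∃ w ∈ closure (conjs t), w⁻¹ * z ∈ Xgrp t a b := by
    rintro l hl z ⟨w, hw, hwX⟩
    exact ⟨l * w, mul_mem (h.L_le_W hl) hw, by rwa [mul_inv_rev, mul_assoc]⟩
  obtain ⟨l, hl, hlx⟩ := h.exists_factor hx
  refine hstep l hl x ?_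
  rcases h.stab_cases hlx with hh | hh | hh
  · exact hR _ hh
  · exact hstep c c.2 _ (hR _ hh)
  · refine hstep (c : G)⁻¹ (inv_mem c.2) _ (hR _ ?_)
    rwa [inv_inv]

theorem C_le_normalizer_X :
    centralizer ({t} : Set G) ≤ normalizer (Xgrp t a b : Set G) := by
  intro x hx
  obtain ⟨w, hw, hwX⟩ := h.exists_WX hx
  rw [show x = w * (w⁻¹ * x) by group]
  refine mul_mem (mem_normalizer_of_conj fun z hz => ?_) (le_normalizer hwX)
  have hzK := h.X_le_K hz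
  have : z * w = w * z := by
    rcases h.mem_W_iff.mp hw with hl | hl
    · exact (mem_centralizer_iff.mp hzK.2 w hl).symm
    · have h1 := mem_centralizer_iff.mp hzK.2 _ hl
      have h2 := mem_centralizer_singleton_iff.mp hzK.1
      calc z * w = z * (t * t) * w := by rw [h.sqt, mul_one]
        _ = (z * t) * (t * w) := by group
        _ = t * (z * (t * w)) := by rw [h2]; group
        _ = t * (t * w * z) := by rw [h1]
        _ = w * z := by rw [← mul_assoc, ← mul_assoc, h.sqt, one_mul]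
  rwa [← this, mul_inv_cancel_right]

theorem NE_le_normalizer_X : NE t a b ≤ normalizer (Xgrp t a b : Set G) := fun n hn =>
  mem_normalizer_of_conj fun x hx => mem_Xgrp.mpr fun m hm => by
    have := mem_Xgrp.mp hx (m * n) (mul_mem hm hn)
    rwa [show m * (n * x * n⁻¹) * m⁻¹ = m * n * x * (m * n)⁻¹ by group]

end Hyp

end Cfsg.Agent.WeakJ1
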