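import Cfsg.Agent.Lib.Invol.TwoTimesAlt.Alt

/-!
# Facts on `A₅` for the weak closure characterisation of the first Janko group
-/

set_option autoImplicit false

namespace Cfsg.Agent.WeakJ1

open Equiv TwoTimesAlt

/-- `b` as a word in `a` and `y`. -/
abbrev word {A : Type*} [Group A] (a y : A) : A := y * a * y⁻¹ * a * y * a * y⁻¹ * a * y

/-- What is used of `A₅`: `⟨a, b⟩` a four group, `⟨a, y⟩ = A₅`, `c` cycles `a, b, a b`. -/
structure JFacts {A : Type*} [Group A] (a b y c : A) : Prop extends VFacts a b where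
  y3 : y ^ 3 = 1
  y1 : y ≠ 1
  ay5 : (a * y) ^ 5 = 1
  ay1 : a * y ≠ 1
  word_eq : word a y = b
  rigid : ∀ z : A, z ^ 3 = 1 → (a * z) ^ 5 = 1 → word a z = b →
    z = y ∨ z = a * y * a ∨ z = b * y * b ∨ z = a * b * y * (a * b)
  c3 : c ^ 3 = 1
  ca : c * a * c⁻¹ = b
  cb : c * b * c⁻¹ = a * b
  ord : ∀ t : A, t * t = 1 ∨ t ^ 3 = 1 ∨ t ^ 5 = 1

/-- `(124)` in `A₅`. -/
def y5 : alternatingGroup (Fin 5) := ⟨swap 1 2 * swap 2 4, Perm.mem_alternatingGroup.mpr (by decide)⟩

/-- `(123)` in `A₅`. -/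
def c5 : alternatingGroup (Fin 5) := ⟨swap 1 2 * swap 2 3, Perm.mem_alternatingGroup.mpr (by decide)⟩

set_option maxRecDepth 4000 in
theorem jfacts_five : JFacts a5 b5 y5 c5 where
  toVFacts := vfacts_five
  y3 := by decide +kernel
  y1 := by decide +kernel
  ay5 := by decide +kernel
  ay1 := by decide +kernel
  word_eq := by decide +kernel
  rigid := by decide +kernel
  c3 := by decide +kernel
  ca := by decide +kernel
  cb := by decide +kernel
  ord := by decide +kernel

theorem JFacts.mapEquiv {A B : Type*} [Group A] [Group B] {a b y c : A} (h : JFacts a b y c)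
    (f : A ≃* B) (hV : VFacts (f a) (f b)) : JFacts (f a) (f b) (f y) (f c) where
  toVFacts := hV
  y3 := by rw [← map_pow, h.y3, map_one]
  y1 := by simpa using h.y1
  ay5 := by rw [← map_mul, ← map_pow, h.ay5, map_one]
  ay1 := by rw [← map_mul, ne_eq, MulEquiv.map_eq_one_iff]; exact h.ay1
  word_eq := by simp only [word, ← map_mul, ← map_inv]; exact congrArg f h.word_eq
  rigid := by
    intro z h1 h2 h3
    obtain ⟨s, rfl⟩ := f.surjective z
    simp only [word, ← map_mul, ← map_inv, ← map_pow, MulEquiv.map_eq_one_iff,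
      f.injective.eq_iff] at h1 h2 h3 ⊢
    exact h.rigid s h1 h2 h3
  c3 := by rw [← map_pow, h.c3, map_one]
  ca := by rw [← map_mul, ← map_inv, ← map_mul, h.ca]
  cb := by rw [← map_mul, ← map_inv, ← map_mul, h.cb, map_mul]
  ord := by
    intro z
    obtain ⟨s, rfl⟩ := f.surjective z
    simp only [← map_mul, ← map_pow, MulEquiv.map_eq_one_iff]
    exact h.ord s

end Cfsg.Agent.WeakJ1
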