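import Cfsg.Agent.Lib.Invol.WeakJ1.Core
import Cfsg.Agent.Lib.Invol.TwoTimesAlt.Five
import Cfsg.Agent.Lib.Spor.J1.Basic

/-!
# The subgroup generated by the orbit of `t` is a first Janko group
-/

set_option autoImplicit false

namespace Cfsg.Agent.WeakJ1

open Subgroup TwoTimesAlt

variable {G : Type*} [Group G]

/-- The subgroup generated by the centraliser of `t` and the normaliser of `⟨t, a, b⟩`. -/
abbrev Mgrp {L : Subgroup G} (t : G) (a b : L) : Subgroup G :=
  centralizer ({t} : Set G) ⊔ NE t a b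

/-- The subgroup generated by the conjugates of `t` under `Mgrp`. -/
def Jgrp {L : Subgroup G} (t : G) (a b : L) : Subgroup G :=
  closure {x | ∃ m ∈ Mgrp t a b, m * t * m⁻¹ = x}

variable [Finite G]

namespace Hyp

variable {t : G} {L : Subgroup G} {a b y c : L} (h : Hyp t L a b y c)
include h

theorem M_le_normalizer_X : Mgrp t a b ≤ normalizer (Xgrp t a b : Set G) :=
  sup_le h.C_le_normalizer_X h.NE_le_normalizer_X

theorem X_le_M : Xgrp t a b ≤ Mgrp t a b := fun _ hx => mem_sup_left (h.X_le_K hx).1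

theorem t_mem_M : t ∈ Mgrp t a b := mem_sup_left (mem_centralizer_singleton_iff.mpr rfl)

theorem t_mem_J : t ∈ Jgrp t a b := subset_closure ⟨1, one_mem _, by simp⟩

theorem J_le_M : Jgrp t a b ≤ Mgrp t a b := (closure_le _).mpr fun _ ⟨_, hm, hx⟩ =>
  hx ▸ mul_mem (mul_mem hm h.t_mem_M) (inv_mem hm)

theorem conj_mem_J {m x : G} (hm : m ∈ Mgrp t a b) (hx : x ∈ Jgrp t a b) :
    m * x * m⁻¹ ∈ Jgrp t a b :=
  conj_closure (E := Jgrp t a b) (S := {x | ∃ q ∈ Mgrp t a b, q * t * q⁻¹ = x})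
    (fun _ ⟨q, hq, he⟩ => subset_closure ⟨m * q, mul_mem hm hq, by rw [← he]; group⟩) hx

/-- The orbit generates a subgroup centralising `X`. -/
theorem comm_JX {j x : G} (hj : j ∈ Jgrp t a b) (hx : x ∈ Xgrp t a b) : Commute j x := by
  induction hj using closure_induction with
  | mem u hu =>
    obtain ⟨m, hm, rfl⟩ := hu
    have h1 := (mem_normalizer_iff.mp (inv_mem (h.M_le_normalizer_X hm)) x).mp hx
    have h2 : Commute t (m⁻¹ * x * m⁻¹⁻¹) :=
      (mem_centralizer_singleton_iff.mp (h.X_le_K h1).1).symm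
    calc m * t * m⁻¹ * x = m * (t * (m⁻¹ * x * m⁻¹⁻¹)) * m⁻¹ := by group
      _ = m * ((m⁻¹ * x * m⁻¹⁻¹) * t) * m⁻¹ := by rw [h2.eq]
      _ = x * (m * t * m⁻¹) := by group
  | one => exact Commute.one_left x
  | mul u v _ _ hu hv => exact hu.mul_left hv
  | inv u _ hu => exact hu.inv_left

theorem exists_M_of_conjs {d : G} (hd : d ∈ conjs t) : ∃ m ∈ Mgrp t a b, m * t * m⁻¹ = d := by
  obtain ⟨l, hl, hlE⟩ := h.exists_conj_E hd
  have hne : l * d * l⁻¹ ≠ 1 := by
    obtain ⟨g, rfl, -⟩ := hd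
    exact (orderOf_eq_two.mp (by rw [orderOf_conj, orderOf_conj, h.ot])).2
  obtain ⟨n, hn, hnt⟩ := h.exists_NE hlE hne
  refine ⟨l⁻¹ * n, mul_mem (inv_mem (mem_sup_left (h.L_le_C hl))) (mem_sup_right hn), ?_⟩
  calc l⁻¹ * n * t * (l⁻¹ * n)⁻¹ = l⁻¹ * (n * t * n⁻¹) * l := by group
    _ = d := by rw [hnt]; group

theorem W_le_J : closure (conjs t) ≤ Jgrp t a b := (closure_le _).mpr fun _ hd => by
  obtain ⟨m, hm, hmd⟩ := h.exists_M_of_conjs hd
  exact subset_closure ⟨m, hm, hmd⟩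

theorem E_le_J : Egrp t a b ≤ Jgrp t a b := h.E_le_W.trans h.W_le_J

theorem L_le_J : L ≤ Jgrp t a b := h.L_le_W.trans h.W_le_J

theorem Cgrp_le_J : Cgrp t a b c ≤ Jgrp t a b := (closure_le _).mpr fun _ ⟨_, hm, hx⟩ =>
  hx ▸ h.conj_mem_J (mem_sup_right hm) (h.L_le_J c.2)

/-- `M = J X`. -/
theorem exists_JX {m : G} (hm : m ∈ Mgrp t a b) : ∃ j ∈ Jgrp t a b, j⁻¹ * m ∈ Xgrp t a b := by
  have hC : centralizer ({t} : Set G) ≤ Jgrp t a b ⊔ Xgrp t a b := fun x hx => by
    obtain ⟨w, hw, hwX⟩ := h.exists_WX hx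
    simpa using mul_mem_sup (h.W_le_J hw) hwX
  have hle : Mgrp t a b ≤ Jgrp t a b ⊔ Xgrp t a b := by
    refine sup_le hC fun n hn => ?_
    obtain ⟨q, hq, hqn⟩ := h.exists_Cgrp hn
    simpa using mul_mem (mem_sup_left (h.Cgrp_le_J hq)) (hC hqn.1)
  have hn : Xgrp t a b ≤ normalizer (Jgrp t a b : Set G) := fun x hx =>
    mem_normalizer_of_conj fun j hj => h.conj_mem_J (h.X_le_M hx) hj
  have hm' := hle hm
  rw [← SetLike.mem_coe, coe_mul_of_right_le_normalizer_left _ _ hn] at hm'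
  obtain ⟨j, hj, x, hx, rfl⟩ := hm'
  exact ⟨j, hj, by simpa using hx⟩

theorem exists_J {m : G} (hm : m ∈ Mgrp t a b) :
    ∃ j ∈ Jgrp t a b, j * t * j⁻¹ = m * t * m⁻¹ := by
  obtain ⟨j, hj, hx⟩ := h.exists_JX hm
  refine ⟨j, hj, ?_⟩
  have hc := mem_centralizer_singleton_iff.mp (h.X_le_K hx).1
  calc j * t * j⁻¹ = j * (t * (j⁻¹ * m)) * m⁻¹ := by group
    _ = j * ((j⁻¹ * m) * t) * m⁻¹ := by rw [hc]
    _ = m * t * m⁻¹ := by group

/-- The orbit of `t` is closed under commuting conjugates. -/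
theorem exists_M_of_adj {m g : G} (hm : m ∈ Mgrp t a b)
    (hc : g * t * g⁻¹ * (m * t * m⁻¹) = m * t * m⁻¹ * (g * t * g⁻¹)) :
    ∃ q ∈ Mgrp t a b, q * t * q⁻¹ = g * t * g⁻¹ := by
  obtain ⟨q, hq, hqd⟩ := h.exists_M_of_conjs (d := m⁻¹ * (g * t * g⁻¹) * m)
    ⟨m⁻¹ * g, by group, by
      calc m⁻¹ * (g * t * g⁻¹) * m * t = m⁻¹ * (g * t * g⁻¹ * (m * t * m⁻¹)) * m := by group
        _ = m⁻¹ * (m * t * m⁻¹ * (g * t * g⁻¹)) * m := by rw [hc]
        _ = t * (m⁻¹ * (g * t * g⁻¹) * m) := by group⟩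
  refine ⟨m * q, mul_mem hm hq, ?_⟩
  calc m * q * t * (m * q)⁻¹ = m * (q * t * q⁻¹) * m⁻¹ := by group
    _ = g * t * g⁻¹ := by rw [hqd]; group

/-- The commutative images of the orbit's span are trivial. -/
theorem hom_trivial {A : Type*} [CommGroup A] (ψ : Jgrp t a b →* A) (j : Jgrp t a b) :
    ψ j = 1 := by
  obtain ⟨e⟩ := h.isoA
  haveI : IsSimpleGroup (alternatingGroup (Fin 5)) := alternatingGroup.isSimpleGroup_five
  haveI : IsSimpleGroup L := e.isSimpleGroup
  set φ : L →* A := ψ.comp (inclusion h.L_le_J)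
  have hker : φ.ker = ⊤ := by
    refine (IsSimpleGroup.eq_bot_or_eq_top_of_normal φ.ker inferInstance).resolve_left fun hb => ?_
    have h1 : c * a * c⁻¹ * a⁻¹ ∈ φ.ker := by
      simp only [MonoidHom.mem_ker, map_mul, map_inv]
      rw [mul_comm (φ c) (φ a), mul_inv_cancel_right, mul_inv_cancel]
    rw [hb, mem_bot, h.facts.ca, mul_inv_eq_one] at h1
    exact h.facts.hab h1.symm
  have hconj : ∀ p q : Jgrp t a b, ψ (p * q * p⁻¹) = ψ q := fun p q => by
    rw [map_mul, map_mul, map_inv, mul_comm (ψ p), mul_inv_cancel_right]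
  have ht : ψ ⟨t, h.t_mem_J⟩ = 1 := by
    obtain ⟨n, hn, hna⟩ := h.exists_NE h.a_mem_E h.a_ne
    obtain ⟨p, hp, hpt⟩ := h.exists_J (mem_sup_right hn)
    have h1 : φ a = 1 := by rw [← MonoidHom.mem_ker, hker]; exact mem_top a
    rw [← h1, ← hconj ⟨p, hp⟩ ⟨t, h.t_mem_J⟩]
    exact congrArg ψ (Subtype.ext (hpt.trans hna))
  obtain ⟨j, hj⟩ := j
  induction hj using closure_induction with
  | mem u hu =>
    obtain ⟨m, hm, hmu⟩ := hu
    obtain ⟨p, hp, hpt⟩ := h.exists_J hm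
    rw [← ht, ← hconj ⟨p, hp⟩ ⟨t, h.t_mem_J⟩]
    exact congrArg ψ (Subtype.ext (hmu.symm.trans hpt.symm))
  | one => exact map_one ψ
  | mul u v hu hv hu' hv' =>
    exact (map_mul ψ ⟨u, hu⟩ ⟨v, hv⟩).trans (by rw [hu', hv', one_mul])
  | inv u hu hu' => exact (map_inv ψ ⟨u, hu⟩).trans (by rw [hu', inv_one])

/-- The central part of the span of the orbit is trivial, and the span is a first Janko group. -/
theorem janko : Jgrp t a b ⊓ Xgrp t a b = ⊥ ∧ Cfsg.Spor.IsoJ1 (Jgrp t a b) ∧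
    ∀ v ∈ Jgrp t a b, orderOf v = 2 → ∃ j ∈ Jgrp t a b, j * t * j⁻¹ = v := by
  classical
  set J := Jgrp t a b with hJ
  set Z := (Xgrp t a b).subgroupOf J with hZdef
  have hZc : ∀ z ∈ Z, ∀ j : J, j * z = z * j := fun z hz j => Subtype.ext (h.comm_JX j.2 hz).eq
  haveI hZn : Z.Normal := ⟨fun z hz j => by rw [hZc z hz, mul_inv_cancel_right]; exact hz⟩
  set π : J →* J ⧸ Z := QuotientGroup.mk' Z with hπ
  have hπs : Function.Surjective π := QuotientGroup.mk'_surjective Z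
  have hπ1 : ∀ j : J, π j = 1 ↔ (j : G) ∈ Xgrp t a b := fun j =>
    (QuotientGroup.eq_one_iff j).trans mem_subgroupOf
  set t' : J := ⟨t, h.t_mem_J⟩ with ht'
  have hWX : ∀ w : J, (w : G) ∈ closure (conjs t) → π w = 1 → w = 1 := fun w hw h1 =>
    Subtype.ext (h.X_W ((hπ1 w).mp h1) hw)
  -- the centraliser of the image of `t`
  have hfix : ∀ j : J, π j * π t' = π t' * π j ↔ (j : G) * t = t * j := by
    intro j
    constructor
    · intro hh
      have h1 : π (j * t' * j⁻¹ * t'⁻¹) = 1 := by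
        rw [map_mul, map_mul, map_mul, map_inv, map_inv, hh, mul_inv_cancel_right, mul_inv_cancel]
      have hX := (hπ1 _).mp h1
      simp only [coe_mul, coe_inv, ht'] at hX
      have hzt := mem_centralizer_singleton_iff.mp (h.X_le_K hX).1
      have hd : (j : G) * t * (j : G)⁻¹ * t = t * ((j : G) * t * (j : G)⁻¹) := by
        calc (j : G) * t * (j : G)⁻¹ * t
            = ((j : G) * t * (j : G)⁻¹ * t⁻¹ * t) * t := by group
          _ = (t * ((j : G) * t * (j : G)⁻¹ * t⁻¹)) * t := by rw [hzt]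
          _ = t * ((j : G) * t * (j : G)⁻¹) := by group
      have hW : (j : G) * t * (j : G)⁻¹ * t⁻¹ ∈ closure (conjs t) :=
        mul_mem (subset_closure ⟨j, rfl, hd⟩) (inv_mem h.t_mem_W)
      have h2 := mul_inv_eq_one.mp (h.X_W hX hW)
      calc (j : G) * t = ((j : G) * t * (j : G)⁻¹) * j := by group
        _ = t * j := by rw [h2]
    · intro hh
      rw [← map_mul, ← map_mul]
      exact congrArg π (Subtype.ext hh)
  set C := centralizer ({π t'} : Set (J ⧸ Z)) with hC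
  have hCmem : ∀ j : J, π j ∈ C ↔ (j : G) * t = t * j := fun j =>
    mem_centralizer_singleton_iff.trans (hfix j)
  -- `t` is 2-central in the quotient
  have hCodd : Odd C.index := by
    have h1 : C.comap π = (centralizer ({t} : Set G)).subgroupOf J := by
      ext j
      rw [mem_comap, hCmem, mem_subgroupOf, mem_centralizer_singleton_iff]
    rw [← index_comap_of_surjective C hπs, h1]
    change Odd ((centralizer ({t} : Set G)).relIndex J)
    rw [← relIndex_eq_of_factor (H := Mgrp t a b) h.J_le_M fun x hx => by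
      obtain ⟨j, hj, hjx⟩ := h.exists_JX hx
      exact ⟨j, hj, (h.X_le_K hjx).1⟩]
    exact odd_relIndex h.odd_index_C le_sup_left
  have ot : orderOf (π t') = 2 := by
    refine orderOf_eq_two.mpr ⟨?_, fun hh => h.t_notMem_X ((hπ1 t').mp hh)⟩
    rw [← map_mul, show t' * t' = 1 from Subtype.ext h.sqt, map_one]
  have h2c : IsTwoCentralInvolution (π t') := by
    haveI : Fact (Nat.Prime 2) := ⟨Nat.prime_two⟩
    obtain ⟨P⟩ : Nonempty (Sylow 2 C) := inferInstance
    have hnd : ¬ 2 ∣ ((P : Subgroup C).map C.subtype).index := by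
      rw [index_map_subtype, Nat.prime_two.dvd_mul, not_or]
      exact ⟨P.not_dvd_index, by rw [Nat.two_dvd_ne_zero, ← Nat.odd_iff]; exact hCodd⟩
    have htC : π t' ∈ C := mem_centralizer_singleton_iff.mpr rfl
    obtain ⟨g, hg⟩ := exists_conj_mem P (v := (⟨π t', htC⟩ : C))
      (by rw [← orderOf_subtype]; exact ot)
    refine ⟨ot, (P.isPGroup'.map C.subtype).toSylow hnd, ?_, ?_⟩
    · refine IsPGroup.mem_toSylow _ _ |>.mpr ⟨_, hg, ?_⟩
      have hgc := mem_centralizer_singleton_iff.mp g.2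
      simp only [coe_subtype, coe_mul, coe_inv]
      rw [hgc, mul_inv_cancel_right]
    · intro x hx
      obtain ⟨u, -, rfl⟩ := (IsPGroup.mem_toSylow _ _).mp hx
      exact mem_centralizer_singleton_iff.mp u.2
  -- the product decomposition
  set T : Subgroup (J ⧸ Z) := (L.subgroupOf J).map π with hT
  have hprod : IsInternalDirectProduct (zpowers (π t')) T C := by
    refine ⟨zpowers_le.mpr (mem_centralizer_singleton_iff.mpr rfl), ?_, ?_, ?_, ?_⟩
    · rintro _ ⟨l, hl, rfl⟩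
      exact (hCmem l).mpr (h.Lcomm l hl).symm
    · rintro x hx _ ⟨l, hl, rfl⟩
      have hc : Commute (π t') (π l) :=
        (mem_centralizer_singleton_iff.mp ((hCmem l).mpr (h.Lcomm l hl).symm)).symm
      obtain ⟨k, rfl⟩ := mem_zpowers_iff.mp hx
      exact (hc.zpow_left k).eq
    · rw [eq_bot_iff]
      rintro x ⟨hx, l, hl, hlx⟩
      obtain ⟨k, rfl⟩ := mem_zpowers_iff.mp hx
      have hk := zpow_mod_orderOf (π t') k
      rw [ot] at hk
      rcases Int.emod_two_eq_zero_or_one k with hk' | hk' <;> push_cast at hk <;> rw [hk'] at hk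
      · rw [mem_bot, ← hk, zpow_zero]
      · exfalso
        rw [zpow_one] at hk
        have h1 : π (t' * l) = 1 := by rw [map_mul, hlx, ← hk, ← map_mul,
          show t' * t' = 1 from Subtype.ext h.sqt, map_one]
        have h2 := hWX _ (mul_mem h.t_mem_W (h.L_le_W hl)) h1
        have h3 : t * (l : G) = 1 := congrArg Subtype.val h2
        exact h.t_mul_mem hl (h3 ▸ one_mem L)
    · refine le_antisymm (sup_le (zpowers_le.mpr (mem_centralizer_singleton_iff.mpr rfl)) ?_) ?_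
      · rintro _ ⟨l, hl, rfl⟩
        exact (hCmem l).mpr (h.Lcomm l hl).symm
      intro q hq
      obtain ⟨j, rfl⟩ := hπs q
      obtain ⟨w, hw, hwX⟩ := h.exists_WX (mem_centralizer_singleton_iff.mpr ((hCmem j).mp hq))
      have h1 : π j = π ⟨w, h.W_le_J hw⟩ := by
        rw [eq_comm, hπ, QuotientGroup.mk'_apply, QuotientGroup.mk'_apply, QuotientGroup.eq]
        exact mem_subgroupOf.mpr hwX
      rw [h1]
      rcases h.mem_W_iff.mp hw with hl | hl
      · exact mem_sup_right ⟨_, hl, rfl⟩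
      · have h2 : π ⟨w, h.W_le_J hw⟩ = π t' * π ⟨t * w, h.L_le_J hl⟩ := by
          rw [← map_mul]
          exact congrArg π (Subtype.ext (by
            change w = t * (t * w)
            rw [← mul_assoc, h.sqt, one_mul]))
        rw [h2]
        exact mul_mem_sup (mem_zpowers _) ⟨_, hl, rfl⟩
  have hsetup : Setup (π t') T := by
    refine ⟨fun N hN h2 => ?_, h2c, hprod⟩
    haveI := hN
    haveI : Fact (Nat.Prime 2) := ⟨Nat.prime_two⟩
    let e : (J ⧸ Z) ⧸ N ≃* Multiplicative (ZMod 2) := mulEquivOfPrimeCardEq (p := 2)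
      (by rw [← Subgroup.index_eq_card, h2])
      (by rw [Nat.card_congr Multiplicative.toAdd, Nat.card_zmod])
    have h3 : N = ⊤ := eq_top_iff.mpr fun q _ => by
      obtain ⟨j, rfl⟩ := hπs q
      have h1 := h.hom_trivial (e.toMonoidHom.comp ((QuotientGroup.mk' N).comp π)) j
      exact (QuotientGroup.eq_one_iff _).mp (e.injective (h1.trans (map_one e).symm))
    rw [h3, index_top] at h2
    omega
  obtain ⟨eA⟩ := h.isoA
  have hinjL : Function.Injective (π.comp (inclusion h.L_le_J)) := by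
    rw [injective_iff_map_eq_one]
    intro l hl
    exact Subtype.ext (congrArg Subtype.val (hWX _ (h.L_le_W l.2) hl) :)
  have hTrange : T = (π.comp (inclusion h.L_le_J)).range := by
    ext x
    constructor
    · rintro ⟨l, hl, rfl⟩; exact ⟨⟨l, hl⟩, rfl⟩
    · rintro ⟨l, rfl⟩; exact ⟨⟨l, h.L_le_J l.2⟩, l.2, rfl⟩
  let eT : T ≃* alternatingGroup (Fin 5) :=
    ((MulEquiv.subgroupCongr hTrange).trans (MonoidHom.ofInjective hinjL).symm).trans eA
  have hns : ¬ Group.IsSolvable (J ⧸ Z) := by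
    intro hs
    haveI : Group.IsSolvable (J ⧸ Z) := hs
    haveI : Group.IsSolvable (alternatingGroup (Fin 5)) :=
      solvable_of_surjective (f := eT.toMonoidHom) eT.surjective
    haveI : IsSimpleGroup (alternatingGroup (Fin 5)) := alternatingGroup.isSimpleGroup_five
    have h1 := (IsSimpleGroup.comm_iff_isSolvable (G := alternatingGroup (Fin 5))).mpr inferInstance
      a5 y5
    revert h1
    decide +kernel
  obtain ⟨f⟩ := iso_j1_of_five hsetup hns eT
  obtain ⟨P, a', b', hsmall, -⟩ := exists_small hsetup eT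
    (Or.inr (by rw [nat_card_alternatingGroup, Nat.card_fin]; decide)) vfacts_five
  have hQ : Nat.card (J ⧸ Z) = 175560 := (Nat.card_congr f.toEquiv).trans
    Cfsg.Agent.J1Cert.card_J1
  -- the transfer to abelian subgroups
  have htrans : ∀ (C0 : Subgroup J), (∀ u ∈ C0, ∀ v ∈ C0, u * v = v * u) → ∀ z ∈ Z,
      z ^ (C0.map π).index = 1 := by
    intro C0 hC0 z hz
    rw [← index_comap_of_surjective _ hπs]
    set A := (C0.map π).comap π
    have hzA : z ∈ A := by
      rw [mem_comap, show π z = 1 from (QuotientGroup.eq_one_iff z).mpr hz]; exact one_mem _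
    have hAc : ∀ u ∈ A, ∀ v ∈ A, u * v = v * u := by
      have hdec : ∀ u ∈ A, ∃ u0 ∈ C0, ∃ w ∈ Z, u = u0 * w := by
        rintro u ⟨u0, hu0, hu⟩
        exact ⟨u0, hu0, u0⁻¹ * u, QuotientGroup.eq.mp hu, by rw [mul_inv_cancel_left]⟩
      intro u hu v hv
      obtain ⟨u0, hu0, w, hw, rfl⟩ := hdec u hu
      obtain ⟨v0, hv0, x, hx, rfl⟩ := hdec v hv
      have e1 : Commute w v0 := (hZc w hw v0).symm
      have e2 : Commute x u0 := (hZc x hx u0).symm
      have e3 : Commute u0 v0 := hC0 u0 hu0 v0 hv0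
      have e4 : Commute w x := hZc x hx w
      exact ((e3.mul_left e1).mul_right (e2.symm.mul_left e4)).eq
    letI : CommGroup A :=
      { (inferInstance : Group A) with
        mul_comm := fun u v => Subtype.ext (hAc u u.2 v v.2) }
    have key : ∀ (k : ℕ) (g₀ : J), g₀⁻¹ * z ^ k * g₀ ∈ A → g₀⁻¹ * z ^ k * g₀ = z ^ k :=
      fun k g₀ _ => by rw [mul_assoc, ← hZc _ (pow_mem hz k) g₀, inv_mul_cancel_left]
    have h1 := MonoidHom.transfer_eq_pow (MonoidHom.id A) z key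
    rw [h.hom_trivial] at h1
    exact congrArg Subtype.val h1.symm
  have hbot : ∀ z ∈ Z, z = 1 := by
    by_contra hno
    push Not at hno
    obtain ⟨z₀, hz₀, hz₁⟩ := hno
    haveI : Nontrivial Z := ⟨⟨⟨z₀, hz₀⟩, 1, fun hh => hz₁ (congrArg Subtype.val hh)⟩⟩
    obtain ⟨p, hp, hpd⟩ := Nat.exists_prime_and_dvd (Finite.one_lt_card (α := Z)).ne'
    haveI : Fact p.Prime := ⟨hp⟩
    obtain ⟨⟨z, hz⟩, hzp⟩ := exists_prime_orderOf_dvd_card' p hpd
    rw [← orderOf_subtype] at hzp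
    suffices ∃ C0 : Subgroup J, (∀ u ∈ C0, ∀ v ∈ C0, u * v = v * u) ∧ ¬ p ∣ (C0.map π).index by
      obtain ⟨C0, hC0, hnd⟩ := this
      exact hnd (hzp ▸ orderOf_dvd_of_pow_eq_one (htrans C0 hC0 z hz))
    by_cases hp2 : p = 2
    · subst hp2
      refine ⟨(Egrp t a b).subgroupOf J,
        fun u hu v hv => Subtype.ext (h.E_comm hu hv), ?_⟩
      have h8 : Nat.card (((Egrp t a b).subgroupOf J).map π) = 8 := by
        rw [← h.card_E, ← Nat.card_congr (subgroupOfEquivOfLe h.E_le_J).toEquiv]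
        refine (Nat.card_eq_of_bijective
          (fun u => (⟨π u.1, u.1, u.2, rfl⟩ : ((Egrp t a b).subgroupOf J).map π)) ⟨?_, ?_⟩).symm
        · intro u v huv
          have h1 : π (u.1⁻¹ * v.1) = 1 := by
            rw [map_mul, map_inv, show π u.1 = π v.1 from congrArg Subtype.val huv, inv_mul_cancel]
          exact Subtype.ext (inv_mul_eq_one.mp
            (hWX _ (h.E_le_W (mul_mem (inv_mem u.2) v.2)) h1))
        · rintro ⟨_, u, hu, rfl⟩
          exact ⟨⟨u, hu⟩, rfl⟩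
      have h1 := card_mul_index (((Egrp t a b).subgroupOf J).map π)
      rw [h8, hQ] at h1
      omega
    by_cases hpQ : p ∣ Nat.card (J ⧸ Z)
    · obtain ⟨q, hq⟩ := exists_prime_orderOf_dvd_card' p hpQ
      obtain ⟨u, rfl⟩ := hπs q
      refine ⟨zpowers u, fun x hx x' hx' => ?_, ?_⟩
      · obtain ⟨i, rfl⟩ := mem_zpowers_iff.mp hx
        obtain ⟨k, rfl⟩ := mem_zpowers_iff.mp hx'
        exact zpow_mul_comm u i k
      rw [MonoidHom.map_zpowers]
      have h1 := card_mul_index (zpowers (π u))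
      rw [Nat.card_zpowers, hq, hQ] at h1
      intro hd
      have h2 : p * p ∣ 175560 := h1 ▸ mul_dvd_mul_left p hd
      have h3 : p = 3 ∨ p = 5 ∨ p = 7 ∨ p = 11 ∨ p = 19 := by
        rw [hQ, show 175560 = 2 * (2 * (2 * (3 * (5 * (7 * (11 * 19)))))) from rfl] at hpQ
        simp only [hp.dvd_mul] at hpQ
        have hprime : ∀ q : ℕ, q.Prime → p ∣ q → p = q := fun q hq' hh =>
          (Nat.prime_dvd_prime_iff_eq hp hq').mp hh
        rcases hpQ with hh | hh | hh | hh | hh | hh | hh | hh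
        iterate 3 exact absurd (hprime 2 Nat.prime_two hh) hp2
        all_goals have := hprime _ (by norm_num) hh
        all_goals omega
      rcases h3 with rfl | rfl | rfl | rfl | rfl <;> revert h2 <;> decide
    · refine ⟨⊥, fun u hu v _ => by rw [mem_bot.mp hu, one_mul, mul_one], ?_⟩
      rw [Subgroup.map_bot, index_bot]
      exact hpQ
  have hinj : Function.Injective π := (injective_iff_map_eq_one π).mpr fun j hj =>
    hbot j ((QuotientGroup.eq_one_iff j).mp hj)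
  refine ⟨?_, ⟨(MulEquiv.ofBijective π ⟨hinj, hπs⟩).trans f⟩, ?_⟩
  · rw [eq_bot_iff]
    rintro x ⟨hxJ, hxX⟩
    exact mem_bot.mpr (congrArg Subtype.val (hbot ⟨x, hxJ⟩ hxX))
  · intro v hv hv2
    obtain ⟨g, hg⟩ := hsmall.exists_conj_eq (v := π ⟨v, hv⟩)
      (by rw [orderOf_injective π hinj, ← orderOf_subtype]; exact hv2)
    obtain ⟨j, rfl⟩ := hπs g
    rw [← map_inv, ← map_mul, ← map_mul] at hg
    exact ⟨j, j.2, congrArg Subtype.val (hinj hg)⟩

theorem inf_eq_bot : Jgrp t a b ⊓ Xgrp t a b = ⊥ := h.janko.1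

theorem JX_unique {j j' x x' : G} (hj : j ∈ Jgrp t a b) (hj' : j' ∈ Jgrp t a b)
    (hx : x ∈ Xgrp t a b) (hx' : x' ∈ Xgrp t a b) (he : j * x = j' * x') : j = j' ∧ x = x' := by
  have h1 : j'⁻¹ * j = x' * x⁻¹ := by
    calc j'⁻¹ * j = j'⁻¹ * (j * x) * x⁻¹ := by group
      _ = x' * x⁻¹ := by rw [he]; group
  have h2 : j'⁻¹ * j ∈ Jgrp t a b ⊓ Xgrp t a b :=
    mem_inf.mpr ⟨mul_mem (inv_mem hj') hj, h1 ▸ mul_mem hx' (inv_mem hx)⟩
  rw [h.inf_eq_bot, mem_bot, inv_mul_eq_one] at h2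
  subst h2
  exact ⟨rfl, mul_left_cancel he⟩

/-- A conjugate of `t` in `M` is conjugate to `t` in the span of the orbit. -/
theorem exists_J_of_mem {g : G} (hg : g * t * g⁻¹ ∈ Mgrp t a b) :
    ∃ j ∈ Jgrp t a b, j * t * j⁻¹ = g * t * g⁻¹ := by
  obtain ⟨j, hj, hx⟩ := h.exists_JX hg
  set x := j⁻¹ * (g * t * g⁻¹) with hxdef
  have hd : g * t * g⁻¹ = j * x := by rw [hxdef, mul_inv_cancel_left]
  have hc : Commute j x := h.comm_JX hj hx
  have hd2 := orderOf_eq_two.mp (show orderOf (g * t * g⁻¹) = 2 by rw [orderOf_conj, h.ot])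
  have hsq : (j * j) * (x * x) = 1 * 1 := by
    rw [one_mul, ← hd2.1, hd]
    calc (j * j) * (x * x) = j * (j * x) * x := by group
      _ = j * (x * j) * x := by rw [hc.eq]
      _ = j * x * (j * x) := by group
  obtain ⟨hjj, -⟩ := h.JX_unique (mul_mem hj hj) (one_mem _) (mul_mem hx hx) (one_mem _) hsq
  by_cases hj1 : j = 1
  · have hxd : g * t * g⁻¹ = x := by rw [hd, hj1, one_mul]
    have hmem : g * t * g⁻¹ ∈ closure (conjs t) := subset_closure ⟨g, rfl, by
      rw [hxd]; exact mem_centralizer_singleton_iff.mp (h.X_le_K hx).1⟩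
    exact absurd (h.X_W (hxd.symm ▸ hx) hmem) hd2.2
  obtain ⟨p, hp, hpj⟩ := h.janko.2.2 j hj (orderOf_eq_two.mpr ⟨hjj, hj1⟩)
  obtain ⟨q, hq, hqd⟩ := h.exists_M_of_adj (g := g) (h.J_le_M hp) (by
    rw [hpj, hd]
    calc j * x * j = j * (x * j) := by group
      _ = j * (j * x) := by rw [hc.eq])
  obtain ⟨j', hj', hjq⟩ := h.exists_J hq
  exact ⟨j', hj', hjq.trans hqd⟩

theorem mem_J_of_mem {g : G} (hg : g * t * g⁻¹ ∈ Mgrp t a b) : g * t * g⁻¹ ∈ Jgrp t a b := by
  obtain ⟨j, hj, he⟩ := h.exists_J_of_mem hg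
  exact he ▸ mul_mem (mul_mem hj h.t_mem_J) (inv_mem hj)

/-- An element moving `t` inside `M` lies in `M`. -/
theorem mem_M_of_conj {g : G} (hg : g * t * g⁻¹ ∈ Mgrp t a b) : g ∈ Mgrp t a b := by
  obtain ⟨j, hj, he⟩ := h.exists_J_of_mem hg
  have h1 : j⁻¹ * g ∈ centralizer ({t} : Set G) := mem_centralizer_singleton_iff.mpr (by
    calc j⁻¹ * g * t = j⁻¹ * (g * t * g⁻¹) * g := by group
      _ = t * (j⁻¹ * g) := by rw [← he]; group)
  simpa using mul_mem (h.J_le_M hj) (mem_sup_left (T := NE t a b) h1)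

end Hyp

end Cfsg.Agent.WeakJ1
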