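import Mathlib.GroupTheory.SpecificGroups.ZGroup
import Mathlib.GroupTheory.SpecificGroups.Cyclic
import Mathlib.GroupTheory.Perm.Cycle.Type

/-!
# Two primes in a group of squarefree order
-/

set_option autoImplicit false

namespace Cfsg.Agent.WeakJ1

open Subgroup

variable {B : Type*} [Group B] [Finite B]

theorem exists_order_mul_of_normal {p q : ℕ} [Fact p.Prime] [Fact q.Prime] (hpq : p ≠ q)
    (hnd : ¬ q ∣ p - 1) {N : Subgroup B} [N.Normal] (hN : Nat.card N = p) (hq : q ∣ Nat.card B) :
    ∃ u : B, orderOf u = p * q := by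
  obtain ⟨s, hs⟩ := exists_prime_orderOf_dvd_card' q hq
  obtain ⟨x, hx⟩ := exists_prime_orderOf_dvd_card' (G := N) p (by rw [hN])
  haveI : IsCyclic N := isCyclic_of_prime_card hN
  have h1 : orderOf (MulAut.conjNormal (H := N) s) ∣ q :=
    hs ▸ orderOf_map_dvd (MulAut.conjNormal (H := N)) s
  have h2 : orderOf (MulAut.conjNormal (H := N) s) ∣ p - 1 := by
    rw [← Nat.totient_prime (Fact.out : p.Prime), ← hN, ← IsCyclic.card_mulAut (G := N)]
    exact orderOf_dvd_natCard _
  have h3 : orderOf (MulAut.conjNormal (H := N) s) = 1 := by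
    rcases (Nat.dvd_prime Fact.out).mp h1 with hh | hh
    · exact hh
    · exact absurd (hh ▸ h2) hnd
  have hc : Commute s (x : B) := by
    have h4 := congrArg (fun e : MulAut N => ((e x : N) : B)) (orderOf_eq_one_iff.mp h3)
    simp only [MulAut.conjNormal_apply, MulAut.one_apply] at h4
    calc s * (x : B) = s * x * s⁻¹ * s := by group
      _ = x * s := by rw [h4]
  refine ⟨(x : B) * s, ?_⟩
  rw [Commute.orderOf_mul_eq_mul_orderOf_of_coprime hc.symm, Subgroup.orderOf_coe, hx, hs]
  rw [Subgroup.orderOf_coe, hx, hs]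
  exact (Nat.coprime_primes Fact.out Fact.out).mpr hpq

theorem exists_normal_of_dvd_commutator [IsZGroup B] {p : ℕ} [Fact p.Prime]
    (hp : p ∣ Nat.card (commutator B)) : ∃ N : Subgroup B, N.Normal ∧ Nat.card N = p := by
  classical
  haveI : IsCyclic (commutator B) := IsZGroup.isCyclic_commutator B
  obtain ⟨x, hx⟩ := exists_prime_orderOf_dvd_card' (G := commutator B) p hp
  haveI := Fintype.ofFinite (commutator B)
  have hkey : ∀ u : commutator B, u ^ p = 1 → u ∈ zpowers x := by
    have hsub : Finset.univ.filter (fun u : commutator B => u ∈ zpowers x) ⊆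
        Finset.univ.filter (fun u : commutator B => u ^ p = 1) := by
      intro u hu
      simp only [Finset.mem_filter, Finset.mem_univ, true_and] at hu ⊢
      exact orderOf_dvd_iff_pow_eq_one.mp (hx ▸ orderOf_dvd_of_mem_zpowers hu)
    have hle : (Finset.univ.filter (fun u : commutator B => u ^ p = 1)).card ≤
        (Finset.univ.filter (fun u : commutator B => u ∈ zpowers x)).card := by
      refine (IsCyclic.card_pow_eq_one_le (Fact.out : p.Prime).pos).trans ?_
      rw [← Fintype.card_subtype, ← Nat.card_eq_fintype_card]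
      exact (hx ▸ (Nat.card_zpowers x).symm).le
    intro u hu
    have h1 : u ∈ Finset.univ.filter (fun u : commutator B => u ∈ zpowers x) := by
      rw [Finset.eq_of_subset_of_card_le hsub hle]
      simp [hu]
    simpa using h1
  refine ⟨zpowers (x : B), ⟨fun n hn g => ?_⟩, by rw [Nat.card_zpowers, Subgroup.orderOf_coe, hx]⟩
  obtain ⟨k, rfl⟩ := mem_zpowers_iff.mp hn
  have hmem : g * (x : B) ^ k * g⁻¹ ∈ commutator B :=
    (inferInstance : (commutator B).Normal).conj_mem _ (zpow_mem x.2 k) g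
  have hpow : (⟨_, hmem⟩ : commutator B) ^ p = 1 := by
    refine Subtype.ext ?_
    rw [SubmonoidClass.coe_pow, conj_pow, ← zpow_natCast ((x : B) ^ k) p, ← zpow_mul, mul_comm,
      zpow_mul, zpow_natCast, ← hx, ← Subgroup.orderOf_coe, pow_orderOf_eq_one, one_zpow]
    simp
  obtain ⟨j, hj⟩ := mem_zpowers_iff.mp (hkey _ hpow)
  exact mem_zpowers_iff.mpr ⟨j, congrArg Subtype.val hj⟩

/-- A group of squarefree order has an element of order `p q` for two suitable prime divisors. -/
theorem exists_order_mul (hsf : Squarefree (Nat.card B)) {p q : ℕ} (hp : p.Prime) (hq : q.Prime)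
    (hpq : p ≠ q) (h1 : ¬ q ∣ p - 1) (h2 : ¬ p ∣ q - 1)
    (hpB : p ∣ Nat.card B) (hqB : q ∣ Nat.card B) : ∃ u : B, orderOf u = p * q := by
  haveI : Fact p.Prime := ⟨hp⟩
  haveI : Fact q.Prime := ⟨hq⟩
  haveI : IsZGroup B := IsZGroup.of_squarefree hsf
  by_cases hpc : p ∣ Nat.card (commutator B)
  · obtain ⟨N, hN, hNc⟩ := exists_normal_of_dvd_commutator hpc
    exact exists_order_mul_of_normal hpq h1 hNc hqB
  by_cases hqc : q ∣ Nat.card (commutator B)
  · obtain ⟨N, hN, hNc⟩ := exists_normal_of_dvd_commutator hqc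
    obtain ⟨u, hu⟩ := exists_order_mul_of_normal hpq.symm h2 hNc hpB
    exact ⟨u, hu.trans (mul_comm q p)⟩
  rw [card_eq_card_quotient_mul_card_subgroup (commutator B)] at hpB hqB
  have hd : p * q ∣ Nat.card (Abelianization B) :=
    Nat.Coprime.mul_dvd_of_dvd_of_dvd ((Nat.coprime_primes hp hq).mpr hpq)
      ((hp.dvd_mul.mp hpB).resolve_right hpc) ((hq.dvd_mul.mp hqB).resolve_right hqc)
  obtain ⟨g, hg⟩ := IsCyclic.exists_ofOrder_eq_natCard (α := Abelianization B)
  obtain ⟨u, rfl⟩ := QuotientGroup.mk_surjective g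
  have hu : p * q ∣ orderOf u := hd.trans (hg ▸ orderOf_map_dvd (Abelianization.of) u)
  exact ⟨u ^ (orderOf u / (p * q)), orderOf_pow_orderOf_div (orderOf_pos u).ne' hu⟩

end Cfsg.Agent.WeakJ1
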