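import Cfsg.Agent.Lib.Invol.WeakJ1.Reduce
import Cfsg.Agent.Lib.Invol.WeakJ1.Primes
import Cfsg.Agent.Lib.Spor.J1.Structure

/-!
# There is no strongly embedded `M`: the weak closure characterisation of the first Janko group
-/

set_option autoImplicit false

universe u

namespace Cfsg.Agent.WeakJ1

open Subgroup TwoTimesAlt MulAction

variable {G : Type u} [Group G]

theorem conj_or_commute [Finite G] {d u : G} (hd : orderOf d = 2) (hu : orderOf u = 2) :
    (∃ g : G, g * d * g⁻¹ = u) ∨ ∃ z : G, orderOf z = 2 ∧ Commute z d ∧ Commute z u := by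
  have hd2 := (orderOf_eq_two.mp hd).1
  have hdi : d⁻¹ = d := inv_eq_of_mul_eq_one_right hd2
  have hui : u⁻¹ = u := inv_eq_of_mul_eq_one_right (orderOf_eq_two.mp hu).1
  set r := d * u with hr
  have hdu : d * r = u := by rw [hr, ← mul_assoc, hd2, one_mul]
  have hinv : d * r * d⁻¹ = r⁻¹ := by rw [hdu, hr, mul_inv_rev, hui]
  have hpow : ∀ k : ℕ, d * r ^ k * d⁻¹ = (r ^ k)⁻¹ := fun k => by rw [← conj_pow, hinv, inv_pow]
  obtain ⟨k, hk | hk⟩ := Nat.even_or_odd' (orderOf r)
  · have hk0 : 0 < k := by have := orderOf_pos r; omega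
    have hz1 : r ^ k ≠ 1 := pow_ne_one_of_lt_orderOf hk0.ne' (by omega)
    have hz2 : r ^ k * r ^ k = 1 := by rw [← pow_add, ← two_mul, ← hk, pow_orderOf_eq_one]
    have hzd : Commute (r ^ k) d := by
      have h1 := hpow k
      rw [inv_eq_of_mul_eq_one_right hz2] at h1
      calc r ^ k * d = d * r ^ k * d⁻¹ * d := by rw [h1]
        _ = d * r ^ k := by group
    refine Or.inr ⟨r ^ k, orderOf_eq_two.mpr ⟨hz2, hz1⟩, hzd, ?_⟩
    rw [← hdu]
    exact hzd.mul_right ((Commute.refl r).pow_left k)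
  · refine Or.inl ⟨r ^ k, ?_⟩
    have h1 : (r ^ k)⁻¹ * (r ^ k)⁻¹ = r := by
      have h2 := pow_orderOf_eq_one r
      rw [hk, pow_succ, two_mul, pow_add] at h2
      rw [← mul_inv_rev]; exact (eq_inv_of_mul_eq_one_right h2).symm
    calc r ^ k * d * (r ^ k)⁻¹ = d * (d⁻¹ * r ^ k * d) * (r ^ k)⁻¹ := by group
      _ = d * (d * r ^ k * d⁻¹) * (r ^ k)⁻¹ := by rw [hdi]
      _ = d * ((r ^ k)⁻¹ * (r ^ k)⁻¹) := by rw [hpow, mul_assoc]
      _ = u := by rw [h1, hdu]

/-- The size of a class of conjugates. -/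
theorem ncard_conjugates [Finite G] (t : G) (H : Subgroup G) :
    {e : G | ∃ g ∈ H, g * t * g⁻¹ = e}.ncard = (centralizer ({t} : Set G)).relIndex H := by
  rw [← Nat.card_coe_set_eq]
  change _ = ((centralizer ({t} : Set G)).subgroupOf H).index
  rw [Subgroup.index_eq_card]
  refine (Nat.card_eq_of_bijective (Quotient.lift
    (fun n : H => (⟨(n : G) * t * (n : G)⁻¹, n, n.2, rfl⟩ :
      {e : G | ∃ g ∈ H, g * t * g⁻¹ = e})) ?_) ⟨?_, ?_⟩).symm
  · intro u v huv
    have h0 := QuotientGroup.leftRel_apply.mp huv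
    rw [mem_subgroupOf] at h0
    have hh := mem_centralizer_singleton_iff.mp h0
    simp only [coe_mul, coe_inv] at hh
    refine Subtype.ext ?_
    calc (u : G) * t * (u : G)⁻¹ = u * (t * ((u : G)⁻¹ * v)) * (v : G)⁻¹ := by group
      _ = u * ((u : G)⁻¹ * v * t) * (v : G)⁻¹ := by rw [hh]
      _ = v * t * (v : G)⁻¹ := by group
  · intro u v huv
    induction u using QuotientGroup.induction_on with
    | H u =>
    induction v using QuotientGroup.induction_on with
    | H v =>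
      have hh : (u : G) * t * (u : G)⁻¹ = v * t * (v : G)⁻¹ := congrArg Subtype.val huv
      refine QuotientGroup.eq.mpr (mem_subgroupOf.mpr (mem_centralizer_singleton_iff.mpr ?_))
      simp only [coe_mul, coe_inv]
      calc (u : G)⁻¹ * v * t = (u : G)⁻¹ * (v * t * (v : G)⁻¹) * v := by group
        _ = t * ((u : G)⁻¹ * v) := by rw [← hh]; group
  · rintro ⟨e, n, hn, rfl⟩
    exact ⟨QuotientGroup.mk ⟨n, hn⟩, rfl⟩

theorem squarefree_21945 : Squarefree 21945 := by
  rw [show (21945 : ℕ) = 3 * (5 * (7 * (11 * 19))) from rfl]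
  have hp : ∀ p : ℕ, p.Prime → Squarefree p := fun p hp => hp.prime.squarefree
  exact (Nat.squarefree_mul (by norm_num)).mpr ⟨hp 3 (by norm_num),
    (Nat.squarefree_mul (by norm_num)).mpr ⟨hp 5 (by norm_num),
      (Nat.squarefree_mul (by norm_num)).mpr ⟨hp 7 (by norm_num),
        (Nat.squarefree_mul (by norm_num)).mpr ⟨hp 11 (by norm_num), hp 19 (by norm_num)⟩⟩⟩⟩

/-- Two of 7, 11, 19 divide a large divisor of 21945. -/
theorem two_large_primes {n : ℕ} (hn : n ∣ 21945) (h : 1463 ≤ n) :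
    (7 ∣ n ∧ 11 ∣ n) ∨ (7 ∣ n ∧ 19 ∣ n) ∨ (11 ∣ n ∧ 19 ∣ n) := by
  have key : ∀ p q m : ℕ, p.Prime → q.Prime → 21945 = p * (q * m) → m < 1463 → 0 < m →
      ¬ p ∣ n → ¬ q ∣ n → False := by
    intro p q m hp hq he hm hm0 hpn hqn
    rw [he] at hn
    have h1 := ((hp.coprime_iff_not_dvd.mpr hpn).symm).dvd_of_dvd_mul_left hn
    have h2 := ((hq.coprime_iff_not_dvd.mpr hqn).symm).dvd_of_dvd_mul_left h1
    exact absurd (Nat.le_of_dvd hm0 h2) (by omega)
  by_contra hno
  push Not at hno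
  obtain ⟨h1, h2, h3⟩ := hno
  by_cases h7 : 7 ∣ n
  · exact key 11 19 105 (by norm_num) (by norm_num) rfl (by norm_num) (by norm_num) (h1 h7) (h2 h7)
  by_cases h11 : 11 ∣ n
  · exact key 7 19 165 (by norm_num) (by norm_num) rfl (by norm_num) (by norm_num) h7 (h3 h11)
  · exact key 7 11 285 (by norm_num) (by norm_num) rfl (by norm_num) (by norm_num) h7 h11

variable [Finite G]

namespace Hyp

variable {t : G} {L : Subgroup G} {a b y c : L} (h : Hyp t L a b y c)
include h

theorem card_W : Nat.card (closure (conjs t)) = 120 := by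
  have h2 : L.relIndex (closure (conjs t)) = 2 := by
    rw [relIndex_eq_two_iff]
    refine ⟨t, h.t_mem_W, fun u hu => ?_⟩
    rcases h.mem_W_iff.mp hu with hl | hl
    · exact Or.inr ⟨hl, fun hh => h.t_mul_mem hl (by rwa [h.t_comm_W hu])⟩
    · exact Or.inl ⟨by rwa [← h.t_comm_W hu], fun hh => h.t_mul_mem hh hl⟩
  have h1 := card_mul_index (L.subgroupOf (closure (conjs t)))
  rw [Nat.card_congr (subgroupOfEquivOfLe h.L_le_W).toEquiv, h.card_L] at h1
  change (L.subgroupOf (closure (conjs t))).index = 2 at h2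
  omega

theorem card_J : Nat.card (Jgrp t a b) = 175560 := by
  obtain ⟨f⟩ := h.janko.2.1
  exact (Nat.card_congr f.toEquiv).trans Cfsg.Agent.J1Cert.card_J1

theorem relIndex_C : (centralizer ({t} : Set G)).relIndex (Mgrp t a b) = 1463 := by
  rw [relIndex_eq_of_factor (H := Mgrp t a b) h.J_le_M fun x hx => by
    obtain ⟨j, hj, hjx⟩ := h.exists_JX hx
    exact ⟨j, hj, (h.X_le_K hjx).1⟩]
  have heq : centralizer ({t} : Set G) ⊓ Jgrp t a b = closure (conjs t) := by
    refine le_antisymm (fun j hj => ?_) (le_inf (fun w hw =>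
      mem_centralizer_singleton_iff.mpr (h.t_comm_W hw).symm) h.W_le_J)
    obtain ⟨w, hw, hwX⟩ := h.exists_WX hj.1
    have h1 : w⁻¹ * j = 1 :=
      mem_bot.mp (h.inf_eq_bot ▸ mem_inf.mpr ⟨mul_mem (inv_mem (h.W_le_J hw)) hj.2, hwX⟩)
    rwa [← inv_mul_eq_one.mp h1]
  have h1 := card_mul_index ((centralizer ({t} : Set G)).subgroupOf (Jgrp t a b))
  rw [← inf_subgroupOf_right, Nat.card_congr (subgroupOfEquivOfLe inf_le_right).toEquiv, heq,
    h.card_W, h.card_J] at h1
  rw [relIndex, ← inf_subgroupOf_right, heq]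
  omega

theorem exists_conj_notMem (hM : Mgrp t a b ≠ ⊤) : ∃ g : G, g * t * g⁻¹ ∉ Mgrp t a b := by
  by_contra hno
  push Not at hno
  exact hM (eq_top_iff.mpr fun g _ => h.mem_M_of_conj (hno g))

/-- All involutions are conjugate to `t`. -/
theorem conj_of_invol (hsmall : Small G) (hM : Mgrp t a b ≠ ⊤) {u : G} (hu : orderOf u = 2) :
    ∃ g : G, g * t * g⁻¹ = u := by
  have key : ∀ d v : G, d ∈ Mgrp t a b → orderOf d = 2 → v ∉ Mgrp t a b → orderOf v = 2 →
      ∃ g : G, g * d * g⁻¹ = v := by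
    intro d v hd hd2 hv hv2
    refine (conj_or_commute hd2 hv2).resolve_right fun ⟨z, hz2, hzd, hzv⟩ => hv ?_
    have hzM : z ∈ Mgrp t a b :=
      h.centralizer_invol_le hsmall hM hd hd2 (mem_centralizer_singleton_iff.mpr hzd.eq)
    exact h.centralizer_invol_le hsmall hM hzM hz2 (mem_centralizer_singleton_iff.mpr hzv.symm.eq)
  by_cases huM : u ∈ Mgrp t a b
  · obtain ⟨g, hg⟩ := h.exists_conj_notMem hM
    obtain ⟨k, hk⟩ := key u _ huM hu hg (by rw [orderOf_conj, h.ot])
    exact ⟨k⁻¹ * g, by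
      calc k⁻¹ * g * t * (k⁻¹ * g)⁻¹ = k⁻¹ * (g * t * g⁻¹) * k := by group
        _ = u := by rw [← hk]; group⟩
  · exact key t u h.t_mem_M h.ot huM hu

theorem strongly (hsmall : Small G) (hM : Mgrp t a b ≠ ⊤) {g s : G} (hs : orderOf s = 2)
    (hsM : s ∈ Mgrp t a b) (hgs : g⁻¹ * s * g ∈ Mgrp t a b) : g ∈ Mgrp t a b := by
  obtain ⟨k, hk⟩ := h.conj_of_invol hsmall hM hs
  subst hk
  have hk := h.mem_M_of_conj hsM
  have h1 := h.mem_M_of_conj (g := g⁻¹ * k) (by
    rwa [show g⁻¹ * k * t * (g⁻¹ * k)⁻¹ = g⁻¹ * (k * t * k⁻¹) * g by group])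
  simpa using inv_mem (mul_mem h1 (inv_mem hk))

/-- Some coset is the image of the base point under many involutions. -/
theorem exists_fiber (hsmall : Small G) (hM : Mgrp t a b ≠ ⊤) :
    ∃ g : G, g ∉ Mgrp t a b ∧ 1463 ≤
      Nat.card {w : G // orderOf w = 2 ∧ (QuotientGroup.mk w : G ⧸ Mgrp t a b) = QuotientGroup.mk g} := by
  classical
  haveI := Fintype.ofFinite G
  haveI := Fintype.ofFinite (G ⧸ Mgrp t a b)
  set M := Mgrp t a b with hMdef
  set pt : G ⧸ M := QuotientGroup.mk 1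
  set A : Finset G := Finset.univ.filter (fun w => orderOf w = 2) with hA
  set B : Finset G := Finset.univ.filter (fun w => orderOf w = 2 ∧ w ∈ M) with hB
  have hAc : A.card = 1463 * M.index := by
    have e : (A : Set G) = {e : G | ∃ g ∈ (⊤ : Subgroup G), g * t * g⁻¹ = e} := by
      ext w
      simp only [hA, Finset.coe_filter, Finset.mem_univ, true_and, Set.mem_setOf_eq, mem_top]
      exact ⟨fun hw => h.conj_of_invol hsmall hM hw,
        fun ⟨g, hg⟩ => by rw [← hg, orderOf_conj, h.ot]⟩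
    rw [← Set.ncard_coe_finset, e, ncard_conjugates, relIndex_top_right,
      ← relIndex_mul_index (le_sup_left : centralizer ({t} : Set G) ≤ M), h.relIndex_C]
  have hBc : B.card = 1463 := by
    have e : (B : Set G) = {e : G | ∃ g ∈ M, g * t * g⁻¹ = e} := by
      ext w
      simp only [hB, Finset.coe_filter, Finset.mem_univ, true_and, Set.mem_setOf_eq]
      refine ⟨fun ⟨hw, hwM⟩ => ?_, ?_⟩
      · obtain ⟨g, rfl⟩ := h.conj_of_invol hsmall hM hw
        exact ⟨g, h.mem_M_of_conj hwM, rfl⟩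
      · rintro ⟨g, hg, rfl⟩
        exact ⟨by rw [orderOf_conj, h.ot], mul_mem (mul_mem hg h.t_mem_M) (inv_mem hg)⟩
    rw [← Set.ncard_coe_finset, e, ncard_conjugates, h.relIndex_C]
  have hdiff : (A \ B).card = 1463 * (M.index - 1) := by
    rw [Finset.card_sdiff_of_subset (by intro w hw; simp [hA, hB] at hw ⊢; exact hw.1), hAc, hBc,
      Nat.mul_sub, mul_one]
  have hcard : (Finset.univ.erase pt).card = M.index - 1 := by
    rw [Finset.card_erase_of_mem (Finset.mem_univ _), Finset.card_univ, ← Nat.card_eq_fintype_card,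
      ← Subgroup.index_eq_card]
  have hne : (Finset.univ.erase pt).Nonempty := by
    obtain ⟨g, hg⟩ := h.exists_conj_notMem hM
    refine ⟨QuotientGroup.mk (g * t * g⁻¹), Finset.mem_erase.mpr ⟨fun hh => ?_, Finset.mem_univ _⟩⟩
    have := QuotientGroup.eq.mp hh
    rw [mul_one] at this
    exact hg (by simpa only [inv_inv] using inv_mem this)
  have hf : ∀ w ∈ A \ B, (QuotientGroup.mk w : G ⧸ M) ∈ Finset.univ.erase pt := by
    intro w hw
    refine Finset.mem_erase.mpr ⟨fun hh => ?_, Finset.mem_univ _⟩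
    simp only [Finset.mem_sdiff, hA, hB, Finset.mem_filter, Finset.mem_univ, true_and, not_and] at hw
    have := QuotientGroup.eq.mp hh
    rw [mul_one] at this
    exact hw.2 hw.1 (by simpa only [inv_inv] using inv_mem this)
  obtain ⟨q, hq, hqc⟩ := Finset.exists_le_card_fiber_of_mul_le_card_of_maps_to (n := 1463) hf hne
    (by rw [hcard, hdiff, mul_comm])
  obtain ⟨g, rfl⟩ := QuotientGroup.mk_surjective q
  refine ⟨g, fun hg => (Finset.mem_erase.mp hq).1 (QuotientGroup.eq.mpr ?_), hqc.trans ?_⟩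
  · rw [mul_one]; exact inv_mem hg
  rw [Nat.card_eq_fintype_card, Fintype.card_subtype]
  refine Finset.card_le_card fun w hw => ?_
  simp only [Finset.mem_filter, Finset.mem_sdiff, hA, hB, Finset.mem_univ, true_and] at hw ⊢
  exact ⟨hw.1.1, hw.2⟩

/-- `M` is the whole group. -/
theorem false_of_proper (hsmall : Small G) (hM : Mgrp t a b ≠ ⊤) : False := by
  classical
  set M := Mgrp t a b with hMdef
  obtain ⟨g, hgM, hfib⟩ := h.exists_fiber hsmall hM
  set F := {w : G // orderOf w = 2 ∧ (QuotientGroup.mk w : G ⧸ M) = QuotientGroup.mk g} with hF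
  have hXn : ((Xgrp t a b).subgroupOf M).Normal :=
    (normal_subgroupOf_iff_le_normalizer h.X_le_M).mpr h.M_le_normalizer_X
  haveI := hXn
  set π : M →* M ⧸ (Xgrp t a b).subgroupOf M := QuotientGroup.mk' _ with hπ
  have hbij : Function.Bijective (π.comp (inclusion h.J_le_M)) := by
    refine ⟨(injective_iff_map_eq_one _).mpr fun j hj => ?_, fun q => ?_⟩
    · exact Subtype.ext (mem_bot.mp (h.inf_eq_bot ▸
        mem_inf.mpr ⟨j.2, mem_subgroupOf.mp
          ((QuotientGroup.eq_one_iff (inclusion h.J_le_M j)).mp hj : _)⟩))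
    · obtain ⟨m, rfl⟩ := QuotientGroup.mk'_surjective _ q
      obtain ⟨j, hj, hjm⟩ := h.exists_JX m.2
      exact ⟨⟨j, hj⟩, QuotientGroup.eq.mpr (mem_subgroupOf.mpr hjm)⟩
  obtain ⟨f⟩ := h.janko.2.1
  let e : (M ⧸ (Xgrp t a b).subgroupOf M) ≃* Cfsg.Spor.J1 :=
    (MulEquiv.ofBijective _ hbij).symm.trans f
  -- the elements fixing both cosets
  set D : Subgroup M := (stabilizer G (QuotientGroup.mk g : G ⧸ M)).subgroupOf M with hD
  have hodd : Odd (Nat.card D) := by
    by_contra hev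
    obtain ⟨s, hs, hs2⟩ := TwoTimesAlt.exists_involution hev
    have hst : (s : G) • (QuotientGroup.mk g : G ⧸ M) = QuotientGroup.mk g := hs
    rw [MulAction.Quotient.smul_mk, smul_eq_mul, eq_comm, QuotientGroup.eq, ← mul_assoc] at hst
    exact hgM (h.strongly hsmall hM (by rw [orderOf_subtype]; exact hs2) s.2 hst)
  set B := D.map π with hB
  have hmemD : ∀ v w : F, (⟨v.1 * w.1, by
      have h1 : (v.1)⁻¹ * w.1 ∈ M := QuotientGroup.eq.mp (v.2.2.trans w.2.2.symm)
      rwa [inv_eq_of_mul_eq_one_right (orderOf_eq_two.mp v.2.1).1] at h1⟩ : M) ∈ D := by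
    intro v w
    have hv2 := (orderOf_eq_two.mp v.2.1).1
    have hw2 := (orderOf_eq_two.mp w.2.1).1
    change (v.1 * w.1) • (QuotientGroup.mk g : G ⧸ M) = QuotientGroup.mk g
    have e1 : (v.1 * w.1) • (QuotientGroup.mk w.1 : G ⧸ M) = QuotientGroup.mk g := by
      rw [MulAction.Quotient.smul_mk, smul_eq_mul, mul_assoc, hw2, mul_one]
      exact v.2.2
    exact (congrArg (fun p => (v.1 * w.1) • p) w.2.2).symm.trans e1
  haveI : Nonempty F := (Nat.card_pos_iff.mp (by omega)).1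
  obtain ⟨v⟩ := ‹Nonempty F›
  have hle : Nat.card F ≤ Nat.card B := by
    refine Nat.card_le_card_of_injective
      (fun w => (⟨π _, mem_map_of_mem π (hmemD v w)⟩ : B)) fun w w' hww => ?_
    have h1 := QuotientGroup.eq.mp (congrArg Subtype.val hww)
    rw [mem_subgroupOf] at h1
    simp only [coe_mul, coe_inv] at h1
    rw [show (v.1 * w.1)⁻¹ * (v.1 * w'.1) = (w.1)⁻¹ * w'.1 by group] at h1
    by_contra hne
    have hw2 := (orderOf_eq_two.mp w.2.1).1
    have hw'2 := (orderOf_eq_two.mp w'.2.1).1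
    have hwi : (w.1)⁻¹ = w.1 := inv_eq_of_mul_eq_one_right hw2
    have hw'i : (w'.1)⁻¹ = w'.1 := inv_eq_of_mul_eq_one_right hw'2
    set x := (w.1)⁻¹ * w'.1 with hx
    have hx1 : x ≠ 1 := fun hh => hne (Subtype.ext (inv_mul_eq_one.mp hh))
    have hinv : w.1 * x⁻¹ * w.1 = x := by
      rw [hx, mul_inv_rev, inv_inv, hw'i, hwi]
      calc w.1 * (w'.1 * w.1) * w.1 = w.1 * w'.1 * (w.1 * w.1) := by group
        _ = w.1 * w'.1 := by rw [hw2, mul_one]
    have hinv' : w.1 * x * w.1 = x⁻¹ := by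
      nth_rewrite 1 [← hinv]
      calc w.1 * (w.1 * x⁻¹ * w.1) * w.1 = (w.1 * w.1) * x⁻¹ * (w.1 * w.1) := by group
        _ = x⁻¹ := by rw [hw2, one_mul, mul_one]
    have hxt : x * t = t * x := mem_centralizer_singleton_iff.mp (h.X_le_K h1).1
    have hxt' : x⁻¹ * t = t * x⁻¹ := (Commute.inv_left (hxt : Commute x t)).eq
    have hcomm : w.1 * t * w.1 * x = x * (w.1 * t * w.1) := by
      calc w.1 * t * w.1 * x = w.1 * t * (w.1 * x * w.1) * (w.1)⁻¹ := by group
        _ = w.1 * (x⁻¹ * t) * (w.1)⁻¹ := by rw [hinv', hxt']; group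
        _ = (w.1 * x⁻¹ * w.1) * ((w.1)⁻¹ * t * (w.1)⁻¹) := by group
        _ = x * (w.1 * t * w.1) := by rw [hinv, hwi]
    have hwM : w.1 * t * (w.1)⁻¹ ∈ M := by
      rw [hwi]
      exact h.centralizer_X_le hsmall hM h1 hx1 (mem_centralizer_singleton_iff.mpr hcomm)
    have hmk := QuotientGroup.eq.mp w.2.2
    exact hgM (by simpa using mul_mem (h.mem_M_of_conj hwM) hmk)
  have hBodd : Odd (Nat.card B) := Odd.of_dvd_nat hodd (card_map_dvd D π)
  have hdvd : Nat.card B ∣ 21945 := by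
    have h1 := card_subgroup_dvd_card B
    rw [Nat.card_congr e.toEquiv, Cfsg.Agent.J1Cert.card_J1,
      show 175560 = 2 ^ 3 * 21945 from rfl] at h1
    exact ((Nat.coprime_two_left.mpr hBodd).pow_left 3).symm.dvd_of_dvd_mul_left h1
  have hsf : Squarefree (Nat.card B) := Squarefree.squarefree_of_dvd hdvd squarefree_21945
  obtain ⟨p, q, hp, hq, hpq, h1, h2, hpB, hqB, hno⟩ : ∃ p q : ℕ, p.Prime ∧ q.Prime ∧ p ≠ q ∧
      ¬ q ∣ p - 1 ∧ ¬ p ∣ q - 1 ∧ p ∣ Nat.card B ∧ q ∣ Nat.card B ∧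
      p * q ∉ ({1, 2, 3, 5, 6, 7, 10, 11, 15, 19} : Set ℕ) := by
    rcases two_large_primes hdvd (hfib.trans hle) with ⟨h1, h2⟩ | ⟨h1, h2⟩ | ⟨h1, h2⟩
    · exact ⟨7, 11, by norm_num, by norm_num, by norm_num, by norm_num, by norm_num, h1, h2, by simp⟩
    · exact ⟨7, 19, by norm_num, by norm_num, by norm_num, by norm_num, by norm_num, h1, h2, by simp⟩
    · exact ⟨11, 19, by norm_num, by norm_num, by norm_num, by norm_num, by norm_num, h1, h2, by simp⟩
  obtain ⟨u, hu⟩ := exists_order_mul hsf hp hq hpq h1 h2 hpB hqB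
  refine hno ?_
  rw [← Cfsg.Agent.J1Cert.range_orderOf]
  exact ⟨e u, by rw [MulEquiv.orderOf_eq, orderOf_subtype, hu]⟩

end Hyp

theorem mgrp_eq_top : ∀ (n : ℕ) (G : Type u) [Group G] [Finite G], Nat.card G = n →
    ∀ (t : G) (L : Subgroup G) (a b y c : L), Hyp t L a b y c → Mgrp t a b = ⊤ := by
  intro n
  induction n using Nat.strong_induction_on with
  | _ n ih =>
    intro G _ _ hG t L a b y c h
    by_contra hM
    exact h.false_of_proper (fun H _ _ hH => ih _ (hG ▸ hH) H rfl) hM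

/-- The weak closure characterisation of the first Janko group. -/
theorem isoJ1_normalClosure {t : G} {L : Subgroup G} {a b y c : L} (h : Hyp t L a b y c) :
    Cfsg.Spor.IsoJ1 (normalClosure ({t} : Set G)) := by
  have htop := mgrp_eq_top _ G rfl t L a b y c h
  have hmem : ∀ g : G, g ∈ Mgrp t a b := fun g => htop ▸ mem_top g
  haveI : (Jgrp t a b).Normal := ⟨fun x hx g => h.conj_mem_J (hmem g) hx⟩
  have he : normalClosure ({t} : Set G) = Jgrp t a b := by
    refine le_antisymm (normalClosure_le_normal (Set.singleton_subset_iff.mpr h.t_mem_J))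
      ((closure_le _).mpr ?_)
    rintro x ⟨m, -, rfl⟩
    exact normalClosure_normal.conj_mem _ (subset_normalClosure (Set.mem_singleton t)) m
  obtain ⟨f⟩ := h.janko.2.1
  exact ⟨(MulEquiv.subgroupCongr he).trans f⟩

end Cfsg.Agent.WeakJ1
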