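import Cfsg.Agent.Lib.Invol.WeakJ1.Basic

/-!
# The normaliser of `⟨t, a, b⟩` is transitive on its involutions
-/

set_option autoImplicit false

namespace Cfsg.Agent.WeakJ1

open Subgroup TwoTimesAlt

variable {G : Type*} [Group G]

/-- The normaliser of `⟨t, a, b⟩`. -/
abbrev NE {L : Subgroup G} (t : G) (a b : L) : Subgroup G := normalizer (Egrp t a b : Set G)

/-- The part of `⟨t, a, b⟩` in `L`. -/
abbrev Vgrp {L : Subgroup G} (t : G) (a b : L) : Subgroup G := Egrp t a b ⊓ L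

variable [Finite G]

/-- In a finite group a subgroup mapped into itself by conjugation is normalised. -/
theorem mem_normalizer_of_conj {E : Subgroup G} {n : G} (hn : ∀ x ∈ E, n * x * n⁻¹ ∈ E) :
    n ∈ normalizer (E : Set G) := by
  rw [mem_normalizer_iff]
  refine fun x => ⟨hn x, fun hx => ?_⟩
  obtain ⟨z, hz⟩ := Finite.surjective_of_injective
    (f := fun z : E => (⟨n * z * n⁻¹, hn z z.2⟩ : E))
    (fun u v huv => Subtype.ext (by simpa using congrArg Subtype.val huv)) ⟨_, hx⟩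
  have : (z : G) = x := by simpa using congrArg Subtype.val hz
  exact this ▸ z.2

omit [Finite G] in
theorem conj_closure {E : Subgroup G} {S : Set G} {n : G} (hn : ∀ x ∈ S, n * x * n⁻¹ ∈ E)
    {x : G} (hx : x ∈ closure S) : n * x * n⁻¹ ∈ E := by
  induction hx using closure_induction with
  | mem u hu => exact hn u hu
  | one => simp
  | mul u v _ _ hu hv => simpa [mul_assoc] using mul_mem hu hv
  | inv u _ hu => simpa [mul_assoc] using inv_mem hu

/-- A subgroup of odd index contains a Sylow 2-subgroup of anything above it. -/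
theorem odd_relIndex {A B : Subgroup G} (hA : Odd A.index) (hAB : A ≤ B) : Odd (A.relIndex B) := by
  rw [← relIndex_mul_index hAB, Nat.odd_mul] at hA
  exact hA.1

namespace Hyp

variable {t : G} {L : Subgroup G} {a b y c : L} (h : Hyp t L a b y c)
include h

theorem mem_NE_of_gen {n : G} (h1 : n * t * n⁻¹ ∈ Egrp t a b) (h2 : n * a * n⁻¹ ∈ Egrp t a b)
    (h3 : n * b * n⁻¹ ∈ Egrp t a b) : n ∈ NE t a b := by
  refine mem_normalizer_of_conj fun x hx => conj_closure ?_ hx
  rintro u (rfl | rfl | rfl)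
  exacts [h1, h2, h3]

theorem ca' : (c : G) * a * (c : G)⁻¹ = b := congrArg Subtype.val h.facts.ca

theorem cb' : (c : G) * b * (c : G)⁻¹ = a * b := congrArg Subtype.val h.facts.cb

theorem cab' : (c : G) * (a * b) * (c : G)⁻¹ = a := by
  rw [show (c : G) * (a * b) * (c : G)⁻¹ = (c * a * (c : G)⁻¹) * (c * b * (c : G)⁻¹) by group,
    h.ca', h.cb', h.inV_comm h.inV_a h.inV_b, ← mul_assoc, h.inV_sq h.inV_b, one_mul]

theorem c_mem : (c : G) ∈ centralizer ({t} : Set G) ⊓ NE t a b := by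
  refine ⟨h.L_le_C c.2, h.mem_NE_of_gen ?_ ?_ ?_⟩
  · rw [← h.Lcomm c c.2, mul_inv_cancel_right]; exact h.t_mem_E
  · rw [h.ca']; exact h.b_mem_E
  · rw [h.cb']; exact mul_mem h.a_mem_E h.b_mem_E

theorem mem_V_iff {x : G} : x ∈ Vgrp t a b ↔ InV (a : G) b x :=
  ⟨fun hx => h.E_L hx.1 hx.2, fun hx => ⟨h.mem_E_iff.mpr (Or.inl hx), h.inV_L hx⟩⟩

theorem a_ne : (a : G) ≠ 1 := fun hh => h.facts.ha1 (Subtype.ext hh)

theorem b_ne : (b : G) ≠ 1 := fun hh => h.facts.hb1 (Subtype.ext hh)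

theorem a_ne_b : (a : G) ≠ b := fun hh => h.facts.hab (Subtype.ext hh)

theorem ab_ne : (a : G) * b ≠ 1 := fun hh => h.a_ne_b (by
  rw [eq_inv_of_mul_eq_one_left hh, inv_eq_of_mul_eq_one_right (h.inV_sq h.inV_b)])

theorem card_V : Nat.card (Vgrp t a b) = 4 := by
  classical
  have hset : ((Vgrp t a b : Subgroup G) : Set G) =
      (({1, (a : G), (b : G), (a : G) * b} : Finset G) : Set G) := by
    ext x
    rw [SetLike.mem_coe, h.mem_V_iff]
    simp [InV]
  change Nat.card ((Vgrp t a b : Subgroup G) : Set G) = 4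
  rw [Nat.card_coe_set_eq, hset, Set.ncard_coe_finset]
  rw [Finset.card_insert_of_notMem, Finset.card_insert_of_notMem, Finset.card_insert_of_notMem,
    Finset.card_singleton]
  · simp only [Finset.mem_singleton]
    exact fun hh => h.a_ne (mul_eq_right.mp hh.symm)
  · simp only [Finset.mem_insert, Finset.mem_singleton, not_or]
    exact ⟨h.a_ne_b, fun hh => h.b_ne (mul_eq_left.mp hh.symm)⟩
  · simp only [Finset.mem_insert, Finset.mem_singleton, not_or]
    exact ⟨h.a_ne.symm, h.b_ne.symm, h.ab_ne.symm⟩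

theorem card_L : Nat.card L = 60 := by
  obtain ⟨e⟩ := h.isoA
  rw [Nat.card_congr e.toEquiv, nat_card_alternatingGroup, Nat.card_fin]
  decide

theorem relIndex_V : (Vgrp t a b).relIndex L = 15 := by
  have h1 := card_mul_index ((Vgrp t a b).subgroupOf L)
  rw [Nat.card_congr (subgroupOfEquivOfLe (inf_le_right : Vgrp t a b ≤ L)).toEquiv, h.card_V,
    h.card_L] at h1
  change ((Vgrp t a b).subgroupOf L).index = 15
  omega

theorem V_le : Vgrp t a b ≤ centralizer ({t} : Set G) ⊓ NE t a b :=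
  fun x hx => ⟨h.L_le_C hx.2, mem_normalizer_of_conj fun z hz =>
    mul_mem (mul_mem hx.1 hz) (inv_mem hx.1)⟩

/-- `C(t) = L · (C(t) ∩ N(⟨t, a, b⟩))`. -/
theorem exists_factor {x : G} (hx : x ∈ centralizer ({t} : Set G)) :
    ∃ l ∈ L, l⁻¹ * x ∈ centralizer ({t} : Set G) ⊓ NE t a b := by
  have sa : (a : G) * a = 1 := h.inV_sq h.inV_a
  obtain ⟨k, hk⟩ := h.facts.one_class ⟨x * a * x⁻¹, h.conj_mem_L hx a.2⟩
    (Subtype.ext (by
      change x * (a : G) * x⁻¹ * (x * a * x⁻¹) = 1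
      rw [show x * (a : G) * x⁻¹ * (x * a * x⁻¹) = x * (a * a) * x⁻¹ by group, sa]; group))
    (fun hh => h.a_ne (by simpa using congrArg Subtype.val hh))
  have hk' : (k : G) * a * (k : G)⁻¹ = x * a * x⁻¹ := congrArg Subtype.val hk
  refine ⟨k, k.2, ?_⟩
  set z := (k : G)⁻¹ * x with hz
  have hzC : z ∈ centralizer ({t} : Set G) := mul_mem (inv_mem (h.L_le_C k.2)) hx
  have hza : z * a * z⁻¹ = a := by
    calc z * a * z⁻¹ = (k : G)⁻¹ * (x * a * x⁻¹) * k := by rw [hz]; group
      _ = a := by rw [← hk']; group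
  refine ⟨hzC, h.mem_NE_of_gen ?_ ?_ ?_⟩
  · rw [mem_centralizer_singleton_iff.mp hzC, mul_inv_cancel_right]; exact h.t_mem_E
  · rw [hza]; exact h.a_mem_E
  · have hzb := h.conj_mem_L hzC b.2
    have h4 := h.facts.four ⟨_, hzb⟩ (Subtype.ext (by
        change z * (b : G) * z⁻¹ * (z * b * z⁻¹) = 1
        rw [show z * (b : G) * z⁻¹ * (z * b * z⁻¹) = z * (b * b) * z⁻¹ by group,
          h.inV_sq h.inV_b]; group))
      (Subtype.ext (by
        change z * (b : G) * z⁻¹ * a = a * (z * b * z⁻¹)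
        conv_lhs => arg 2; rw [← hza]
        conv_rhs => arg 1; rw [← hza]
        rw [show z * (b : G) * z⁻¹ * (z * a * z⁻¹) = z * (b * a) * z⁻¹ by group,
          show z * (a : G) * z⁻¹ * (z * b * z⁻¹) = z * (a * b) * z⁻¹ by group,
          h.inV_comm h.inV_a h.inV_b]))
    exact h.mem_E_iff.mpr (Or.inl (inV_coe.mpr h4))

theorem odd_index_C : Odd (centralizer ({t} : Set G)).index := by
  haveI : Fact (Nat.Prime 2) := ⟨Nat.prime_two⟩
  obtain ⟨S, hS⟩ := h.twoC
  rw [Nat.odd_iff, ← Nat.two_dvd_ne_zero]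
  exact fun h2 => S.not_dvd_index (h2.trans
    (index_dvd_of_le fun s hs => mem_centralizer_singleton_iff.mpr (hS s hs)))

theorem odd_index : Odd (centralizer ({t} : Set G) ⊓ NE t a b).index := by
  rw [← relIndex_mul_index (inf_le_left :
      centralizer ({t} : Set G) ⊓ NE t a b ≤ centralizer ({t} : Set G)), Nat.odd_mul]
  refine ⟨?_, h.odd_index_C⟩
  rw [relIndex_eq_of_factor h.L_le_C fun x hx => h.exists_factor hx]
  have h1 := relIndex_dvd_of_le_left L h.V_le
  rw [h.relIndex_V] at h1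
  exact Odd.of_dvd_nat (by decide) h1

/-- The orbit of `t` under the normaliser of `⟨t, a, b⟩`. -/
theorem ncard_orbit : {e : G | ∃ n ∈ NE t a b, n * t * n⁻¹ = e}.ncard =
    (centralizer ({t} : Set G) ⊓ NE t a b).relIndex (NE t a b) := by
  rw [← Nat.card_coe_set_eq]
  change _ = ((centralizer ({t} : Set G) ⊓ NE t a b).subgroupOf (NE t a b)).index
  rw [Subgroup.index_eq_card]
  refine (Nat.card_eq_of_bijective (Quotient.lift
    (fun n : NE t a b => (⟨(n : G) * t * (n : G)⁻¹, n, n.2, rfl⟩ :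
      {e : G | ∃ n ∈ NE t a b, n * t * n⁻¹ = e})) ?_) ⟨?_, ?_⟩).symm
  · intro u v huv
    have h0 := QuotientGroup.leftRel_apply.mp huv
    rw [mem_subgroupOf, mem_inf] at h0
    have hh := mem_centralizer_singleton_iff.mp h0.1
    simp only [coe_mul, coe_inv] at hh
    refine Subtype.ext ?_
    calc (u : G) * t * (u : G)⁻¹ = u * (t * ((u : G)⁻¹ * v)) * (v : G)⁻¹ := by group
      _ = u * ((u : G)⁻¹ * v * t) * (v : G)⁻¹ := by rw [hh]
      _ = v * t * (v : G)⁻¹ := by group
  · intro u v huv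
    induction u using QuotientGroup.induction_on with
    | H u =>
    induction v using QuotientGroup.induction_on with
    | H v =>
      have hh : (u : G) * t * (u : G)⁻¹ = v * t * (v : G)⁻¹ := congrArg Subtype.val huv
      refine QuotientGroup.eq.mpr ⟨mem_centralizer_singleton_iff.mpr ?_, (u⁻¹ * v).2⟩
      change (u : G)⁻¹ * v * t = t * ((u : G)⁻¹ * v)
      calc (u : G)⁻¹ * v * t = (u : G)⁻¹ * (v * t * (v : G)⁻¹) * v := by group
        _ = t * ((u : G)⁻¹ * v) := by rw [← hh]; group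
  · rintro ⟨e, n, hn, rfl⟩
    exact ⟨QuotientGroup.mk ⟨n, hn⟩, rfl⟩

theorem exists_L_part {u : G} (hu : u ∈ closure (conjs t)) : ∃ l ∈ L, u = l ∨ u = t * l := by
  rcases h.mem_W_iff.mp hu with hl | hl
  · exact ⟨u, hl, Or.inl rfl⟩
  · exact ⟨t * u, hl, Or.inr (by rw [← mul_assoc, h.sqt, one_mul])⟩

theorem card_E : Nat.card (Egrp t a b) = 8 := by
  have h2 : (Vgrp t a b).relIndex (Egrp t a b) = 2 := by
    rw [relIndex_eq_two_iff]
    refine ⟨t, h.t_mem_E, fun u hu => ?_⟩
    rcases h.mem_E_iff.mp hu with hv | hv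
    · refine Or.inr ⟨h.mem_V_iff.mpr hv, fun hh => h.t_mul_mem (h.inV_L hv) ?_⟩
      rw [h.E_comm h.t_mem_E hu]; exact hh.2
    · refine Or.inl ⟨?_, fun hh => h.t_mul_mem hh.2 (h.inV_L hv)⟩
      rw [h.E_comm hu h.t_mem_E]; exact h.mem_V_iff.mpr hv
  have h1 := card_mul_index ((Vgrp t a b).subgroupOf (Egrp t a b))
  rw [Nat.card_congr (subgroupOfEquivOfLe (inf_le_left : Vgrp t a b ≤ Egrp t a b)).toEquiv,
    h.card_V] at h1
  change ((Vgrp t a b).subgroupOf (Egrp t a b)).index = 2 at h2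
  omega

theorem exists_E_notMem (s : Finset G) (hs : s.card ≤ 4) : ∃ x ∈ Egrp t a b, x ∉ s := by
  by_contra hh
  push Not at hh
  have h1 := Set.ncard_le_ncard (s := ((Egrp t a b : Subgroup G) : Set G)) (t := (s : Set G)) hh
    (Finset.finite_toSet s)
  rw [Set.ncard_coe_finset, ← Nat.card_coe_set_eq] at h1
  have h2 : Nat.card ((Egrp t a b : Subgroup G) : Set G) = 8 := h.card_E
  omega

/-- If `d` lies in `⟨t, a, b⟩` and `⟨t, a, b⟩` is generated by conjugates of `t`, then `d` is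
conjugate to `t` in the normaliser. -/
theorem exists_NE_of_gen {D : Set G} (hD : ∀ x ∈ D, x ∈ Egrp t a b ∧ ∃ g : G, g * t * g⁻¹ = x)
    (hgen : Egrp t a b ≤ closure D) {g : G} (hd : g * t * g⁻¹ ∈ Egrp t a b) :
    ∃ n ∈ NE t a b, n * t * n⁻¹ = g * t * g⁻¹ := by
  classical
  set d := g * t * g⁻¹ with hdd
  have hW : ∀ x ∈ Egrp t a b, g⁻¹ * x * g ∈ closure (conjs t) := by
    intro x hx
    have := conj_closure (E := closure (conjs t)) (n := g⁻¹) (fun z hz => ?_) (hgen hx)
    · simpa using this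
    · obtain ⟨hzE, k, hk⟩ := hD z hz
      refine subset_closure ⟨g⁻¹ * k, by rw [← hk]; group, ?_⟩
      have hc := h.E_comm hzE hd
      calc g⁻¹ * z * g⁻¹⁻¹ * t = g⁻¹ * (z * d) * g := by rw [hdd]; group
        _ = g⁻¹ * (d * z) * g := by rw [hc]
        _ = t * (g⁻¹ * z * g⁻¹⁻¹) := by rw [hdd]; group
  have key : ∀ x ∈ Egrp t a b, x ≠ 1 → x ≠ d → ∃ u ∈ L, u ≠ 1 ∧ u * u = 1 ∧
      g * u * g⁻¹ ∈ Egrp t a b ∧ (g * u * g⁻¹ = x ∨ g * u * g⁻¹ = d * x) := by
    intro x hx hx1 hxd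
    obtain ⟨u, hu, huv⟩ := h.exists_L_part (hW x hx)
    have hgu : g * u * g⁻¹ = x ∨ g * u * g⁻¹ = d * x := by
      rcases huv with hh | hh
      · exact Or.inl (by rw [← hh]; group)
      · refine Or.inr ?_
        rw [show u = t * (g⁻¹ * x * g) by rw [hh, ← mul_assoc, h.sqt, one_mul], hdd]
        group
    have hguE : g * u * g⁻¹ ∈ Egrp t a b := by
      rcases hgu with hh | hh <;> rw [hh]
      exacts [hx, mul_mem hd hx]
    refine ⟨u, hu, fun hh => ?_, ?_, hguE, hgu⟩
    · rw [hh] at hgu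
      simp only [mul_one, mul_inv_cancel] at hgu
      rcases hgu with hh' | hh'
      · exact hx1 hh'.symm
      · exact hxd (by rw [eq_inv_of_mul_eq_one_right hh'.symm,
          inv_eq_of_mul_eq_one_right (h.E_sq hd)])
    · calc u * u = g⁻¹ * (g * u * g⁻¹ * (g * u * g⁻¹)) * g := by group
        _ = 1 := by rw [h.E_sq hguE]; group
  obtain ⟨x, hx, hxs⟩ := h.exists_E_notMem {1, d} ((Finset.card_le_two).trans (by norm_num))
  simp only [Finset.mem_insert, Finset.mem_singleton, not_or] at hxs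
  obtain ⟨z, hz, hzs⟩ := h.exists_E_notMem {1, d, x, d * x} Finset.card_le_four
  simp only [Finset.mem_insert, Finset.mem_singleton, not_or] at hzs
  obtain ⟨u, hu, hu1, hu2, huE, hux⟩ := key x hx hxs.1 hxs.2
  obtain ⟨v, hv, hv1, hv2, hvE, hvz⟩ := key z hz hzs.1 hzs.2.1
  have huv : u ≠ v := by
    intro hh
    rw [← hh] at hvz
    rcases hux with h1 | h1 <;> rcases hvz with h3 | h3 <;> rw [h1] at h3
    · exact hzs.2.2.1 h3.symm
    · exact hzs.2.2.2 (by rw [h3, ← mul_assoc, h.E_sq hd, one_mul])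
    · exact hzs.2.2.2 h3.symm
    · exact hzs.2.2.1 (mul_left_cancel h3).symm
  have huvc : u * v = v * u := by
    calc u * v = g⁻¹ * (g * u * g⁻¹ * (g * v * g⁻¹)) * g := by group
      _ = g⁻¹ * (g * v * g⁻¹ * (g * u * g⁻¹)) * g := by rw [h.E_comm huE hvE]
      _ = v * u := by group
  obtain ⟨k, hk⟩ := h.facts.one_class ⟨u, hu⟩ (Subtype.ext hu2)
    (fun hh => hu1 (congrArg Subtype.val hh))
  have hk' : (k : G) * a * (k : G)⁻¹ = u := congrArg Subtype.val hk
  set w := (k : G)⁻¹ * v * k with hw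
  have h4 := h.facts.four ⟨w, mul_mem (mul_mem (inv_mem k.2) hv) k.2⟩ (Subtype.ext (by
      change w * w = 1
      rw [hw, show (k : G)⁻¹ * v * k * ((k : G)⁻¹ * v * k) = (k : G)⁻¹ * (v * v) * k by group, hv2]
      group))
    (Subtype.ext (by
      change w * a = a * w
      calc w * a = (k : G)⁻¹ * (v * (k * a * (k : G)⁻¹)) * k := by rw [hw]; group
        _ = (k : G)⁻¹ * ((k * a * (k : G)⁻¹) * v) * k := by rw [hk', huvc]
        _ = a * w := by rw [hw]; group))
  replace h4 := inV_coe.mpr h4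
  have hkt : (k : G) * t * (k : G)⁻¹ = t := by rw [← h.Lcomm k k.2, mul_inv_cancel_right]
  set n := g * (k : G) with hn
  have e1 : n * t * n⁻¹ = d := by
    rw [hn, hdd, show g * (k : G) * t * (g * k)⁻¹ = g * (k * t * (k : G)⁻¹) * g⁻¹ by group, hkt]
  have e2 : n * a * n⁻¹ = g * u * g⁻¹ := by rw [hn, ← hk']; group
  have e3 : n * w * n⁻¹ = g * v * g⁻¹ := by rw [hn, hw]; group
  refine ⟨n, h.mem_NE_of_gen (e1 ▸ hd) (e2 ▸ huE) ?_, e1⟩
  rcases h4 with h4 | h4 | h4 | h4 <;> change w = _ at h4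
  · exact absurd (show v = 1 by
      calc v = (k : G) * w * (k : G)⁻¹ := by rw [hw]; group
        _ = 1 := by rw [h4]; group) hv1
  · exact absurd (show u = v by
      calc u = (k : G) * w * (k : G)⁻¹ := by rw [← hk', h4]
        _ = v := by rw [hw]; group) huv
  · rw [← h4, e3]; exact hvE
  · have hb : (b : G) = a * w := by
      rw [h4, ← mul_assoc, h.inV_sq h.inV_a, one_mul]
    rw [hb, show n * (a * w) * n⁻¹ = (n * a * n⁻¹) * (n * w * n⁻¹) by group, e2, e3]
    exact mul_mem huE hvE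

/-- `N(⟨t, a, b⟩)` is transitive on the involutions of `⟨t, a, b⟩`. -/
theorem exists_NE {e : G} (he : e ∈ Egrp t a b) (he1 : e ≠ 1) :
    ∃ n ∈ NE t a b, n * t * n⁻¹ = e := by
  classical
  set D : Set G := {x | x ∈ Egrp t a b ∧ ∃ g : G, g * t * g⁻¹ = x}
  have htD : t ∈ D := ⟨h.t_mem_E, 1, by simp⟩
  have hstep : ∀ x ∈ D, (c : G) * x * (c : G)⁻¹ ∈ D := fun x hx => by
    obtain ⟨g, hg⟩ := hx.2
    exact ⟨(mem_normalizer_iff.mp h.c_mem.2 x).mp hx.1, c * g, by rw [← hg]; group⟩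
  have htc : ∀ x : G, (c : G) * (t * x) * (c : G)⁻¹ = t * ((c : G) * x * (c : G)⁻¹) := fun x => by
    rw [← mul_assoc, ← h.Lcomm c c.2]; group
  have hcyc : ((a : G) ∈ D ∨ (b : G) ∈ D ∨ (a : G) * b ∈ D) →
      (a : G) ∈ D ∧ (b : G) ∈ D ∧ (a : G) * b ∈ D := by
    have h1 : (a : G) ∈ D → (b : G) ∈ D := fun hh => h.ca' ▸ hstep _ hh
    have h2 : (b : G) ∈ D → (a : G) * b ∈ D := fun hh => h.cb' ▸ hstep _ hh
    have h3 : (a : G) * b ∈ D → (a : G) ∈ D := fun hh => by simpa only [h.cab'] using hstep _ hh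
    rintro (hh | hh | hh)
    · exact ⟨hh, h1 hh, h2 (h1 hh)⟩
    · exact ⟨h3 (h2 hh), hh, h2 hh⟩
    · exact ⟨h3 hh, h1 (h3 hh), hh⟩
  have hcyc' : (t * a ∈ D ∨ t * b ∈ D ∨ t * (a * b) ∈ D) →
      t * a ∈ D ∧ t * b ∈ D ∧ t * (a * b) ∈ D := by
    have h1 : t * a ∈ D → t * b ∈ D := fun hh => by
      simpa only [htc, h.ca'] using hstep _ hh
    have h2 : t * b ∈ D → t * (a * b) ∈ D := fun hh => by
      simpa only [htc, h.cb'] using hstep _ hh
    have h3 : t * (a * b) ∈ D → t * a ∈ D := fun hh => by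
      simpa only [htc, h.cab'] using hstep _ hh
    rintro (hh | hh | hh)
    · exact ⟨hh, h1 hh, h2 (h1 hh)⟩
    · exact ⟨h3 (h2 hh), hh, h2 hh⟩
    · exact ⟨h3 hh, h1 (h3 hh), hh⟩
  have hcases : ∀ x ∈ D, x ≠ t →
      ((a : G) ∈ D ∨ (b : G) ∈ D ∨ (a : G) * b ∈ D) ∨
      (t * a ∈ D ∨ t * b ∈ D ∨ t * (a * b) ∈ D) := by
    intro x hx hxt
    have hx1 : x ≠ 1 := by
      obtain ⟨g, rfl⟩ := hx.2
      exact (orderOf_eq_two.mp (by rw [orderOf_conj, h.ot])).2
    rcases h.mem_E_iff.mp hx.1 with hv | hv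
    · rcases hv with rfl | rfl | rfl | rfl
      exacts [absurd rfl hx1, Or.inl (Or.inl hx), Or.inl (Or.inr (Or.inl hx)),
        Or.inl (Or.inr (Or.inr hx))]
    · have e : x = t * (t * x) := by rw [← mul_assoc, h.sqt, one_mul]
      rcases hv with hh | hh | hh | hh <;> rw [hh] at e <;> rw [e] at hx hxt
      exacts [absurd (mul_one t) hxt, Or.inr (Or.inl hx), Or.inr (Or.inr (Or.inl hx)),
        Or.inr (Or.inr (Or.inr hx))]
  have hne : ∃ x ∈ D, x ≠ t := by
    by_contra hno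
    push Not at hno
    have hle : closure (conjs t) ≤ zpowers t := by
      refine (closure_le _).mpr fun d hd => ?_
      obtain ⟨l, hl, hlE⟩ := h.exists_conj_E hd
      obtain ⟨g, hg, -⟩ := hd
      have h1 := hno _ ⟨hlE, l * g, by rw [hg]; group⟩
      have h2 : d = t := by
        calc d = l⁻¹ * (l * d * l⁻¹) * l := by group
          _ = l⁻¹ * t * l := by rw [h1]
          _ = t := by rw [mul_assoc, h.Lcomm l hl]; group
      exact h2 ▸ mem_zpowers t
    obtain ⟨k, hk⟩ := mem_zpowers_iff.mp (hle (h.L_le_W a.2))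
    have hk2 := zpow_mod_orderOf t k
    rw [h.ot] at hk2
    rcases Int.emod_two_eq_zero_or_one k with hk' | hk' <;> push_cast at hk2 <;> rw [hk'] at hk2
    · rw [zpow_zero] at hk2; exact h.a_ne (hk ▸ hk2.symm)
    · rw [zpow_one, hk] at hk2; exact h.tL (hk2.symm ▸ a.2)
  obtain ⟨x₀, hx₀, hx₀t⟩ := hne
  have hgen : Egrp t a b ≤ closure D := by
    refine (closure_le _).mpr ?_
    rintro u (rfl | rfl | rfl)
    · exact subset_closure htD
    all_goals
      rcases hcases x₀ hx₀ hx₀t with hh | hh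
      · first
          | exact subset_closure (hcyc hh).1
          | exact subset_closure (hcyc hh).2.1
      · first
          | (have := mul_mem (subset_closure htD) (subset_closure (hcyc' hh).1)
             rwa [← mul_assoc, h.sqt, one_mul] at this)
          | (have := mul_mem (subset_closure htD) (subset_closure (hcyc' hh).2.1)
             rwa [← mul_assoc, h.sqt, one_mul] at this)
  have horb : {e : G | ∃ n ∈ NE t a b, n * t * n⁻¹ = e} = D := by
    ext x
    constructor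
    · rintro ⟨n, hn, rfl⟩
      exact ⟨(mem_normalizer_iff.mp hn t).mp h.t_mem_E, n, rfl⟩
    · rintro ⟨hx, g, rfl⟩
      exact h.exists_NE_of_gen (D := D) (fun z hz => hz) hgen hx
  have hodd : Odd D.ncard := by
    rw [← horb, h.ncard_orbit]
    exact odd_relIndex h.odd_index inf_le_right
  suffices heD : e ∈ D by rw [← horb] at heD; exact heD
  have hfour : ∀ p q r : G, p ∈ D → q ∈ D → r ∈ D → (∀ x ∈ D, x = t ∨ x = p ∨ x = q ∨ x = r) →
      ({t, p, q, r} : Finset G).card = 4 → False := by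
    intro p q r hp hq hr hall hcard
    have hD : D = (({t, p, q, r} : Finset G) : Set G) := by
      ext x
      simp only [Finset.coe_insert, Finset.coe_singleton, Set.mem_insert_iff, Set.mem_singleton_iff]
      refine ⟨hall x, ?_⟩
      rintro (rfl | rfl | rfl | rfl) <;> assumption
    rw [hD, Set.ncard_coe_finset, hcard] at hodd
    exact absurd hodd (by decide)
  have hVV : ∀ x, InV (a : G) b x → t ≠ x := fun x hx hh => h.tL (hh.symm ▸ h.inV_L hx)
  have hTV : ∀ x, InV (a : G) b x → x ≠ 1 → t ≠ t * x := fun x _ hx1 hh =>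
    hx1 (mul_eq_left.mp hh.symm)
  have hA : (a : G) ∈ D ∧ (b : G) ∈ D ∧ (a : G) * b ∈ D := by
    by_contra hno
    have hB : t * a ∈ D ∧ t * b ∈ D ∧ t * (a * b) ∈ D := by
      rcases hcases x₀ hx₀ hx₀t with hh | hh
      exacts [absurd (hcyc hh) hno, hcyc' hh]
    refine hfour _ _ _ hB.1 hB.2.1 hB.2.2 (fun x hx => ?_) ?_
    · by_cases hxt : x = t
      · exact Or.inl hxt
      right
      have hxV : ∀ u, InV (a : G) b u → u ≠ 1 → x ≠ u := by
        rintro u (rfl | rfl | rfl | rfl) hu1 rfl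
        exacts [hu1 rfl, hno (hcyc (Or.inl hx)), hno (hcyc (Or.inr (Or.inl hx))),
          hno (hcyc (Or.inr (Or.inr hx)))]
      rcases h.mem_E_iff.mp hx.1 with hv | hv
      · by_cases hx1 : x = 1
        · obtain ⟨g, hg⟩ := hx.2
          exact absurd (hx1 ▸ hg) (orderOf_eq_two.mp (by rw [orderOf_conj, h.ot])).2
        · exact absurd rfl (hxV x hv hx1)
      · have e : x = t * (t * x) := by rw [← mul_assoc, h.sqt, one_mul]
        rcases hv with hh | hh | hh | hh <;> rw [hh] at e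
        · exact absurd (e.trans (mul_one t)) hxt
        · exact Or.inl e
        · exact Or.inr (Or.inl e)
        · exact Or.inr (Or.inr e)
    · rw [Finset.card_insert_of_notMem, Finset.card_insert_of_notMem, Finset.card_insert_of_notMem,
        Finset.card_singleton]
      · simp only [Finset.mem_singleton, mul_right_inj]
        exact fun hh => h.a_ne (mul_eq_right.mp hh.symm)
      · simp only [Finset.mem_insert, Finset.mem_singleton, not_or, mul_right_inj]
        exact ⟨h.a_ne_b, fun hh => h.b_ne (mul_eq_left.mp hh.symm)⟩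
      · simp only [Finset.mem_insert, Finset.mem_singleton, not_or]
        exact ⟨hTV _ h.inV_a h.a_ne, hTV _ h.inV_b h.b_ne,
          hTV _ (Or.inr (Or.inr (Or.inr rfl))) h.ab_ne⟩
  have hB : t * a ∈ D ∧ t * b ∈ D ∧ t * (a * b) ∈ D := by
    by_contra hno
    refine hfour _ _ _ hA.1 hA.2.1 hA.2.2 (fun x hx => ?_) ?_
    · by_cases hxt : x = t
      · exact Or.inl hxt
      right
      rcases h.mem_E_iff.mp hx.1 with hv | hv
      · rcases hv with hh | hh | hh | hh
        · obtain ⟨g, hg⟩ := hx.2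
          exact absurd (hh ▸ hg) (orderOf_eq_two.mp (by rw [orderOf_conj, h.ot])).2
        · exact Or.inl hh
        · exact Or.inr (Or.inl hh)
        · exact Or.inr (Or.inr hh)
      · have e : x = t * (t * x) := by rw [← mul_assoc, h.sqt, one_mul]
        rcases hv with hh | hh | hh | hh <;> rw [hh] at e
        · exact absurd (e.trans (mul_one t)) hxt
        · exact absurd (hcyc' (Or.inl (e ▸ hx))) hno
        · exact absurd (hcyc' (Or.inr (Or.inl (e ▸ hx)))) hno
        · exact absurd (hcyc' (Or.inr (Or.inr (e ▸ hx)))) hno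
    · rw [Finset.card_insert_of_notMem, Finset.card_insert_of_notMem, Finset.card_insert_of_notMem,
        Finset.card_singleton]
      · simp only [Finset.mem_singleton]
        exact fun hh => h.a_ne (mul_eq_right.mp hh.symm)
      · simp only [Finset.mem_insert, Finset.mem_singleton, not_or]
        exact ⟨h.a_ne_b, fun hh => h.b_ne (mul_eq_left.mp hh.symm)⟩
      · simp only [Finset.mem_insert, Finset.mem_singleton, not_or]
        exact ⟨hVV _ h.inV_a, hVV _ h.inV_b, hVV _ (Or.inr (Or.inr (Or.inr rfl)))⟩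
  rcases h.mem_E_iff.mp he with hv | hv
  · rcases hv with hh | hh | hh | hh
    exacts [absurd hh he1, hh ▸ hA.1, hh ▸ hA.2.1, hh ▸ hA.2.2]
  · have e' : e = t * (t * e) := by rw [← mul_assoc, h.sqt, one_mul]
    rcases hv with hh | hh | hh | hh <;> rw [hh] at e'
    exacts [(e'.trans (mul_one t)).symm ▸ htD, e'.symm ▸ hB.1, e'.symm ▸ hB.2.1, e'.symm ▸ hB.2.2]

theorem relIndex_seven : (centralizer ({t} : Set G) ⊓ NE t a b).relIndex (NE t a b) = 7 := by
  rw [← h.ncard_orbit]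
  have hset : {e : G | ∃ n ∈ NE t a b, n * t * n⁻¹ = e} =
      ((Egrp t a b : Subgroup G) : Set G) \ {1} := by
    ext x
    constructor
    · rintro ⟨n, hn, rfl⟩
      exact ⟨(mem_normalizer_iff.mp hn t).mp h.t_mem_E,
        fun hh => h.t_ne (by simpa using Set.mem_singleton_iff.mp hh)⟩
    · exact fun hx => h.exists_NE hx.1 hx.2
  rw [hset, Set.ncard_sdiff_singleton_of_mem (one_mem (Egrp t a b)), ← Nat.card_coe_set_eq]
  change Nat.card (Egrp t a b) - 1 = 7
  rw [h.card_E]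

end Hyp

end Cfsg.Agent.WeakJ1
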