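import Cfsg.Agent.Lib.Invol.WeakJ1.Janko
import Cfsg.Agent.Lib.Invol.ZStar
import Cfsg.Agent.Lib.Grp.CoprimeAbelian

/-!
# Subgroups and quotients inherit the hypothesis
-/

set_option autoImplicit false

universe u

namespace Cfsg.Agent.WeakJ1

open Subgroup TwoTimesAlt

/-- In all groups smaller than `G` the centraliser of `t` and the normaliser of `⟨t, a, b⟩`
generate. -/
def Small (G : Type u) [Group G] : Prop :=
  ∀ (H : Type u) [Group H] [Finite H], Nat.card H < Nat.card G →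
    ∀ (t : H) (L : Subgroup H) (a b y c : L), Hyp t L a b y c → Mgrp t a b = ⊤

variable {G : Type u} [Group G] [Finite G]

namespace Hyp

variable {t : G} {L : Subgroup G} {a b y c : L} (h : Hyp t L a b y c)
include h

theorem t_mem_J' {g : G} (hg : g * t * g⁻¹ ∈ Mgrp t a b) {x e : G} (hx : x ∈ Xgrp t a b)
    (he : e ∈ Jgrp t a b) (heq : g * t * g⁻¹ = e * x) : x = 1 :=
  (h.JX_unique (h.mem_J_of_mem hg) he (one_mem _) hx (by rw [mul_one, heq])).2.symm

theorem exists_conj_of_E {e : G} (he : e ∈ Egrp t a b) (he1 : e ≠ 1) :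
    ∃ g : G, g * t * g⁻¹ = e := by
  obtain ⟨n, -, hn⟩ := h.exists_NE he he1
  exact ⟨n, hn⟩

theorem conjs_le_orbit {d : G} (hd : d ∈ conjs t) :
    ∃ j ∈ Jgrp t a b, j * t * j⁻¹ = d := by
  obtain ⟨m, hm, hmd⟩ := h.exists_M_of_conjs hd
  obtain ⟨j, hj, hjm⟩ := h.exists_J hm
  exact ⟨j, hj, hjm.trans hmd⟩

/-- A nontrivial central subgroup of `G` inside `X` reduces `G`. -/
theorem top_of_central (hsmall : Small G) {Y : Subgroup G} (hY : Y ≠ ⊥)
    (hYX : Y ≤ Xgrp t a b) (hc : Y ≤ center G) : Mgrp t a b = ⊤ := by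
  classical
  haveI : Y.Normal := ⟨fun x hx g => by
    rw [mem_center_iff.mp (hc hx) g, mul_inv_cancel_right]; exact hx⟩
  set π : G →* G ⧸ Y := QuotientGroup.mk' Y with hπ
  have hπs : Function.Surjective π := QuotientGroup.mk'_surjective Y
  have hπ1 : ∀ g : G, π g = 1 ↔ g ∈ Y := fun g => QuotientGroup.eq_one_iff g
  have hlift : ∀ {u v : G}, π u = π v → ∃ z ∈ Y, u = v * z := fun {u v} huv =>
    ⟨v⁻¹ * u, (hπ1 _).mp (by rw [map_mul, map_inv, huv, inv_mul_cancel]), by
      rw [mul_inv_cancel_left]⟩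
  have hYM : Y ≤ Mgrp t a b := hYX.trans h.X_le_M
  have hinj : Function.Injective (π.comp L.subtype) := by
    rw [injective_iff_map_eq_one]
    exact fun l hl => Subtype.ext (h.X_W (hYX ((hπ1 _).mp hl)) (h.L_le_W l.2))
  let f : L ≃* (π.comp L.subtype).range := MonoidHom.ofInjective hinj
  -- conjugates of `t` commuting with `t` modulo `Y` commute with it
  have hcomm : ∀ g : G, π (g * t * g⁻¹) * π t = π t * π (g * t * g⁻¹) →
      g * t * g⁻¹ * t = t * (g * t * g⁻¹) := by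
    intro g hg
    rw [← map_mul, ← map_mul] at hg
    obtain ⟨z, hz, hze⟩ := hlift hg
    have hd : (g * t * g⁻¹) * t * (g * t * g⁻¹)⁻¹ = t * z := by
      rw [hze, show t * (g * t * g⁻¹) * z = t * ((g * t * g⁻¹) * z) by group,
        mem_center_iff.mp (hc hz) (g * t * g⁻¹)]
      group
    have h1 := h.t_mem_J' (g := g * t * g⁻¹) (hd ▸ mul_mem h.t_mem_M (hYM hz)) (hYX hz)
      h.t_mem_J hd
    rw [hze, h1, mul_one]
  have hH : Hyp (π t) (π.comp L.subtype).range (f a) (f b) (f y) (f c) := by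
    refine
      { ot := ?_
        facts := h.facts.mapEquiv f (h.facts.toVFacts.of_equiv f)
        isoA := h.isoA.map fun e => f.symm.trans e
        tL := ?_
        Lcomm := ?_
        closure_eq := ?_
        twoC := ?_ }
    · refine orderOf_eq_two.mpr ⟨by rw [← map_mul, h.sqt, map_one], fun hh => ?_⟩
      exact h.t_notMem_X (hYX ((hπ1 t).mp hh))
    · rintro ⟨l, hl⟩
      obtain ⟨z, hz, hze⟩ := hlift (hl : π (l : G) = π t)
      change (l : G) = t * z at hze
      have hzW : z ∈ closure (conjs t) := by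
        rw [show z = t⁻¹ * l by rw [hze, inv_mul_cancel_left]]
        exact mul_mem (inv_mem h.t_mem_W) (h.L_le_W l.2)
      rw [h.X_W (hYX hz) hzW, mul_one] at hze
      exact h.tL (hze ▸ l.2)
    · rintro _ ⟨l, rfl⟩
      change π t * π (l : G) = π (l : G) * π t
      rw [← map_mul, ← map_mul, h.Lcomm _ l.2]
    · have himg : conjs (π t) = π '' conjs t := by
        ext x
        constructor
        · rintro ⟨q, rfl, hx⟩
          obtain ⟨g, rfl⟩ := hπs q
          rw [← map_inv, ← map_mul, ← map_mul] at hx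
          exact ⟨g * t * g⁻¹, ⟨g, rfl, hcomm g hx⟩, by simp⟩
        · rintro ⟨d, ⟨g, rfl, hd⟩, rfl⟩
          exact ⟨π g, by simp, by rw [← map_mul, ← map_mul, hd]⟩
      rw [himg, ← MonoidHom.map_closure, h.closure_eq, Subgroup.map_sup, MonoidHom.map_zpowers,
        MonoidHom.range_comp, range_subtype]
    · haveI : Fact (Nat.Prime 2) := ⟨Nat.prime_two⟩
      obtain ⟨S, hS⟩ := h.twoC
      refine ⟨S.mapSurjective hπs, fun s hs => ?_⟩
      obtain ⟨u, hu, rfl⟩ := hs
      rw [← map_mul, ← map_mul, hS u hu]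
  have hlt : Nat.card (G ⧸ Y) < Nat.card G := by
    rw [card_eq_card_quotient_mul_card_subgroup Y]
    exact lt_mul_of_one_lt_right Nat.card_pos (Y.one_lt_card_iff_ne_bot.mpr hY)
  have htop := hsmall _ hlt _ _ _ _ _ _ hH
  have hle : Mgrp (π t) (f a) (f b) ≤ (Mgrp t a b).map π := by
    refine sup_le (fun q hq => ?_) (fun q hq => ?_)
    · obtain ⟨g, rfl⟩ := hπs q
      refine mem_map_of_mem π (mem_sup_left ?_)
      have hq' := mem_centralizer_singleton_iff.mp hq
      rw [← map_mul, ← map_mul] at hq'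
      obtain ⟨z, hz, hze⟩ := hlift hq'
      have hd : g * t * g⁻¹ = t * z := by
        rw [hze, show t * g * z = t * (g * z) by group, mem_center_iff.mp (hc hz) g]; group
      rw [h.t_mem_J' (hd ▸ mul_mem h.t_mem_M (hYM hz)) (hYX hz) h.t_mem_J hd, mul_one] at hd
      exact mem_centralizer_singleton_iff.mpr (by
        calc g * t = g * t * g⁻¹ * g := by group
          _ = t * g := by rw [hd])
    · obtain ⟨n, rfl⟩ := hπs q
      refine mem_map_of_mem π (mem_sup_right ?_)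
      have hE : Egrp (π t) (f a) (f b) = (Egrp t a b).map π := by
        rw [Egrp, Egrp, MonoidHom.map_closure]
        congr 1
        simp [Set.image_insert_eq, f, MonoidHom.ofInjective_apply]
      have key : ∀ e ∈ Egrp t a b, n * e * n⁻¹ ∈ Egrp t a b := by
        intro e he
        by_cases he1 : e = 1
        · subst he1; simp
        have h1 := (mem_normalizer_iff.mp hq (π e)).mp (hE ▸ mem_map_of_mem π he)
        rw [hE, ← map_inv, ← map_mul, ← map_mul] at h1
        obtain ⟨e', he', hee⟩ := h1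
        obtain ⟨z, hz, hze⟩ := hlift hee.symm
        obtain ⟨g, rfl⟩ := h.exists_conj_of_E he he1
        have hd : n * g * t * (n * g)⁻¹ = e' * z := by rw [← hze]; group
        rw [h.t_mem_J' (g := n * g) (hd ▸ mul_mem (h.J_le_M (h.E_le_J he')) (hYM hz)) (hYX hz)
          (h.E_le_J he') hd, mul_one] at hze
        exact hze.symm ▸ he'
      exact mem_normalizer_of_conj key
  rw [htop] at hle
  rw [eq_top_iff]
  intro g _
  obtain ⟨m, hm, hmg⟩ := hle (mem_top (π g))
  obtain ⟨z, hz, hze⟩ := hlift hmg.symm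
  exact hze ▸ mul_mem hm (hYM hz)

omit h in
theorem fixed_point {α : Type*} [Finite α] {n : G} {k : ℕ} (hk : n ^ 2 ^ k = 1)
    (f : α → α) [MulAction (zpowers n) α] (hf : ∀ x : α, (⟨n, mem_zpowers n⟩ : zpowers n) • x = f x)
    (hodd : ¬ 2 ∣ Nat.card α) : ∃ x, f x = x := by
  haveI : Fact (Nat.Prime 2) := ⟨Nat.prime_two⟩
  have hp : IsPGroup 2 (zpowers n) := by
    rintro ⟨g, hg⟩
    obtain ⟨i, rfl⟩ := mem_zpowers_iff.mp hg
    refine ⟨k, Subtype.ext ?_⟩
    change (n ^ i) ^ 2 ^ k = 1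
    rw [← zpow_natCast, ← zpow_mul, mul_comm, zpow_mul, zpow_natCast, hk, one_zpow]
  obtain ⟨x, hx⟩ := hp.nonempty_fixed_point_of_prime_not_dvd_card α hodd
  exact ⟨x, (hf x).symm.trans (hx _)⟩

theorem R_inf_J {x : G} (hx : x ∈ Rgrp t a b) (hxJ : x ∈ Jgrp t a b) : x ∈ Egrp t a b := by
  obtain ⟨v, hv, hk⟩ := h.exists_VK hx
  have hvE : v ∈ Egrp t a b := h.mem_E_iff.mpr (Or.inl hv)
  have hkJ : v⁻¹ * x ∈ Jgrp t a b := mul_mem (inv_mem (h.E_le_J hvE)) hxJ
  have key : ∀ k, k ∈ Xgrp t a b → k ∈ Jgrp t a b → k = 1 := fun k h1 h2 =>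
    mem_bot.mp (h.inf_eq_bot ▸ (mem_inf.mpr ⟨h2, h1⟩))
  rcases h.exists_KX hk with hX | hX
  · rw [inv_mul_eq_one.mp (key _ hX hkJ)] at hvE
    exact hvE
  · have h1 := key _ hX (mul_mem h.t_mem_J hkJ)
    rw [show x = v * t by
      rw [← h.invt, inv_eq_of_mul_eq_one_right h1, mul_inv_cancel_left]]
    exact mul_mem hvE h.t_mem_E

/-- An element sending `⟨t, a, b⟩` into its centraliser normalises it. -/
theorem mem_NE_of_conj {n : G} (hn : ∀ e ∈ Egrp t a b, n * e * n⁻¹ ∈ Rgrp t a b) :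
    n ∈ NE t a b := mem_normalizer_of_conj fun e he => by
  by_cases he1 : e = 1
  · subst he1; simp
  have hR := hn e he
  obtain ⟨g, rfl⟩ := h.exists_conj_of_E he he1
  refine h.R_inf_J hR ?_
  rw [show n * (g * t * g⁻¹) * n⁻¹ = n * g * t * (n * g)⁻¹ by group] at hR ⊢
  exact h.mem_J_of_mem (mem_sup_left (h.R_le_C hR))

/-- A 2-group containing `⟨t, a, b⟩` centralises it. -/
theorem twoGroup_le_R {P : Subgroup G} (hP : IsPGroup 2 P) (hE : Egrp t a b ≤ P) :
    P ≤ Rgrp t a b := by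
  haveI : Fact (Nat.Prime 2) := ⟨Nat.prime_two⟩
  by_contra hne
  haveI : Group.IsNilpotent P := hP.isNilpotent
  set T0 := (Rgrp t a b).subgroupOf P with hT0
  have hlt : T0 < ⊤ := lt_top_iff_ne_top.mpr fun hh => hne fun x hx =>
    mem_subgroupOf.mp (hh ▸ mem_top (⟨x, hx⟩ : P))
  obtain ⟨n, hn, hn'⟩ := SetLike.exists_of_lt (Group.normalizerCondition_of_isNilpotent T0 hlt)
  have hnN : (n : G) ∈ NE t a b := h.mem_NE_of_conj fun e he =>
    mem_subgroupOf.mp ((mem_normalizer_iff.mp hn ⟨e, hE he⟩).mp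
      (mem_subgroupOf.mpr (h.E_le_R he)))
  obtain ⟨k, hk⟩ := hP n
  have hk' : (n : G) ^ 2 ^ k = 1 := congrArg Subtype.val hk
  let α := {e : G // e ∈ ((Egrp t a b : Subgroup G) : Set G) \ {1}}
  have hzn : ∀ g ∈ zpowers (n : G), g ∈ NE t a b := fun g hg => zpowers_le.mpr hnN hg
  letI : MulAction (zpowers (n : G)) α :=
    { smul := fun g e => ⟨(g : G) * e.1 * (g : G)⁻¹, h.conj_mem_E (hzn g g.2) e.2.1, fun hh =>
        e.2.2 (by simpa using Set.mem_singleton_iff.mp hh)⟩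
      one_smul := fun e => Subtype.ext (show (1 : G) * e.1 * (1 : G)⁻¹ = e.1 by simp)
      mul_smul := fun g g' e => Subtype.ext (show ((g : G) * g') * e.1 * ((g : G) * g')⁻¹ =
        (g : G) * ((g' : G) * e.1 * (g' : G)⁻¹) * (g : G)⁻¹ by group) }
  have hcard : Nat.card α = 7 := by
    rw [Nat.card_coe_set_eq, Set.ncard_sdiff_singleton_of_mem (one_mem (Egrp t a b)),
      ← Nat.card_coe_set_eq]
    change Nat.card (Egrp t a b) - 1 = 7
    rw [h.card_E]
  obtain ⟨⟨e, he, he1⟩, hfix⟩ := fixed_point (α := α) hk'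
    (fun e => (⟨(n : G), mem_zpowers _⟩ : zpowers (n : G)) • e) (fun _ => rfl)
    (by rw [hcard]; decide)
  exact hn' (mem_subgroupOf.mpr (h.mem_R_of_pow hnN he (fun hh => he1 hh)
    (congrArg Subtype.val hfix) (Nat.Coprime.pow_right k (by decide : Nat.Coprime 3 2)) hk'))

/-- A proper subgroup containing the span of the orbit lies in `M`. -/
theorem le_M_of_J_le (hsmall : Small G) {U : Subgroup G} (hU : U ≠ ⊤)
    (hJU : Jgrp t a b ≤ U) : U ≤ Mgrp t a b := by
  classical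
  haveI : Fact (Nat.Prime 2) := ⟨Nat.prime_two⟩
  have hLU : L ≤ U := h.L_le_J.trans hJU
  have htU : t ∈ U := hJU h.t_mem_J
  set f : L ≃* L.subgroupOf U := (subgroupOfEquivOfLe hLU).symm with hf
  have himg : U.subtype '' conjs (⟨t, htU⟩ : U) = conjs t := by
    ext x
    constructor
    · rintro ⟨d, ⟨g, rfl, hd⟩, rfl⟩
      exact ⟨g, rfl, congrArg Subtype.val hd⟩
    · intro hx
      obtain ⟨j, hj, rfl⟩ := h.conjs_le_orbit hx
      exact ⟨⟨j, hJU hj⟩ * ⟨t, htU⟩ * ⟨j, hJU hj⟩⁻¹, ⟨_, rfl, Subtype.ext hx.choose_spec.2⟩, rfl⟩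
  have hH : Hyp (⟨t, htU⟩ : U) (L.subgroupOf U) (f a) (f b) (f y) (f c) := by
    refine
      { ot := by rw [← orderOf_subtype]; exact h.ot
        facts := h.facts.mapEquiv f (h.facts.toVFacts.of_equiv f)
        isoA := h.isoA.map fun e => f.symm.trans e
        tL := fun hh => h.tL hh
        Lcomm := fun l hl => Subtype.ext (h.Lcomm _ hl)
        closure_eq := ?_
        twoC := ?_ }
    · apply map_injective U.subtype_injective
      rw [MonoidHom.map_closure, himg, h.closure_eq, Subgroup.map_sup, MonoidHom.map_zpowers,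
        map_subgroupOf_eq_of_le hLU]
      rfl
    · have hEU : IsPGroup 2 ((Egrp t a b).subgroupOf U) := IsPGroup.of_card (n := 3) (by
        rw [Nat.card_congr (subgroupOfEquivOfLe (h.E_le_J.trans hJU)).toEquiv, h.card_E]; norm_num)
      obtain ⟨P, hP⟩ := hEU.exists_le_sylow
      refine ⟨P, fun s hs => Subtype.ext ?_⟩
      have hR := h.twoGroup_le_R (P := (P : Subgroup U).map U.subtype) (P.isPGroup'.map U.subtype)
        (fun e he => ⟨⟨e, hJU (h.E_le_J he)⟩, hP (mem_subgroupOf.mpr he), rfl⟩)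
        ⟨s, hs, rfl⟩
      exact mem_centralizer_singleton_iff.mp (h.R_le_C hR)
  have hlt : Nat.card U < Nat.card G :=
    (card_le_card_group U).lt_of_ne fun hh => hU (eq_top_of_card_eq U hh)
  have htop := hsmall U hlt _ _ _ _ _ _ hH
  have hE : (Egrp (⟨t, htU⟩ : U) (f a) (f b)).map U.subtype = Egrp t a b := by
    rw [Egrp, Egrp, MonoidHom.map_closure]
    congr 1
    simp [Set.image_insert_eq, f, subgroupOfEquivOfLe]
  have hle : Mgrp (⟨t, htU⟩ : U) (f a) (f b) ≤ (Mgrp t a b).subgroupOf U := by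
    refine sup_le (fun q hq => mem_subgroupOf.mpr (mem_sup_left ?_))
      (fun q hq => mem_subgroupOf.mpr (mem_sup_right ?_))
    · exact mem_centralizer_singleton_iff.mpr
        (congrArg Subtype.val (mem_centralizer_singleton_iff.mp hq))
    · refine mem_normalizer_of_conj fun e he => ?_
      rw [← hE] at he ⊢
      obtain ⟨e', he', rfl⟩ := he
      exact ⟨q * e' * q⁻¹, (mem_normalizer_iff.mp hq e').mp he', rfl⟩
  intro u hu
  exact mem_subgroupOf.mp (hle (htop ▸ mem_top (⟨u, hu⟩ : U)))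

theorem centralizer_X_le (hsmall : Small G) (hM : Mgrp t a b ≠ ⊤) {x : G}
    (hx : x ∈ Xgrp t a b) (hx1 : x ≠ 1) : centralizer ({x} : Set G) ≤ Mgrp t a b := by
  refine h.le_M_of_J_le hsmall (fun hh => ?_) fun j hj =>
    mem_centralizer_singleton_iff.mpr (h.comm_JX hj hx).eq
  exact hM (h.top_of_central hsmall (Y := zpowers x) (zpowers_ne_bot.mpr hx1)
    (zpowers_le.mpr hx) (zpowers_le.mpr (mem_center_iff.mpr fun g =>
      mem_centralizer_singleton_iff.mp (hh ▸ mem_top g))))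

theorem centralizer_conj_le {e g : G} (he : g * t * g⁻¹ = e) (hg : g ∈ Mgrp t a b) :
    centralizer ({e} : Set G) ≤ Mgrp t a b := by
  intro z hz
  have h1 : g⁻¹ * z * g ∈ centralizer ({t} : Set G) := mem_centralizer_singleton_iff.mpr (by
    have h2 := mem_centralizer_singleton_iff.mp hz
    rw [← he] at h2
    calc g⁻¹ * z * g * t = g⁻¹ * (z * (g * t * g⁻¹)) * g := by group
      _ = g⁻¹ * (g * t * g⁻¹ * z) * g := by rw [h2]
      _ = t * (g⁻¹ * z * g) := by group)
  simpa [mul_assoc] using mul_mem (mul_mem hg (mem_sup_left (T := NE t a b) h1)) (inv_mem hg)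

theorem centralizer_tx_le {x : G} (hx : x ∈ Xgrp t a b)
    (hx1 : x ≠ 1) (hx2 : x * x = 1) : centralizer ({t * x} : Set G) ≤ Mgrp t a b := by
  classical
  haveI : Fact (Nat.Prime 2) := ⟨Nat.prime_two⟩
  set U := centralizer ({t * x} : Set G) with hU
  have hxc : ∀ j ∈ Jgrp t a b, Commute j x := fun j hj => h.comm_JX hj hx
  have hEU : Egrp t a b ≤ U := fun e he => mem_centralizer_singleton_iff.mpr
    ((Commute.mul_right (h.E_comm he h.t_mem_E : Commute e t) (hxc e (h.E_le_J he))).eq)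
  have htU : t ∈ U := hEU h.t_mem_E
  have hE2 : IsPGroup 2 ((Egrp t a b).subgroupOf U) := IsPGroup.of_card (n := 3) (by
    rw [Nat.card_congr (subgroupOfEquivOfLe hEU).toEquiv, h.card_E]; norm_num)
  obtain ⟨P, hP⟩ := hE2.exists_le_sylow
  have hPR : ∀ s ∈ (P : Subgroup U), (s : G) ∈ Rgrp t a b := fun s hs =>
    h.twoGroup_le_R (P := (P : Subgroup U).map U.subtype) (P.isPGroup'.map U.subtype)
      (fun e he => ⟨⟨e, hEU he⟩, hP (mem_subgroupOf.mpr he), rfl⟩) ⟨s, hs, rfl⟩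
  set t' : U := ⟨t, htU⟩ with ht'
  have ht'P : t' ∈ P := hP (mem_subgroupOf.mpr h.t_mem_E)
  have hiso : IsIsolatedInvolution t' := by
    refine Cfsg.Agent.ZStar.isIsolated_of_sylow ht'P (by rw [← orderOf_subtype]; exact h.ot)
      fun g hg => ?_
    have hd : ((g * t' * g⁻¹ : U) : G) = (g : G) * t * (g : G)⁻¹ := rfl
    have hR := hPR _ hg
    have hdE : (g : G) * t * (g : G)⁻¹ ∈ Egrp t a b :=
      h.R_inf_J (hd ▸ hR) (h.mem_J_of_mem (mem_sup_left (h.R_le_C (hd ▸ hR))))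
    have hcent : ∀ u : U, (u : G) ∈ Egrp t a b → u ∈ centralizer ((P : Subgroup U) : Set U) :=
      fun u hu => mem_centralizer_iff.mpr fun s hs => Subtype.ext
        (mem_centralizer_iff.mp (hPR s hs) _ hu).symm
    obtain ⟨n, hn, hne⟩ := P.conj_eq_normalizer_conj_of_mem_centralizer t' g⁻¹
      (hcent t' h.t_mem_E) (hcent _ (by simpa using hdE))
    rw [inv_inv] at hne
    have hq : ((n⁻¹ : U) : G) ∈ NE t a b := h.mem_NE_of_conj fun e he =>
      hPR _ ((mem_normalizer_iff.mp (inv_mem hn) ⟨e, hEU he⟩).mp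
        (hP (mem_subgroupOf.mpr he)))
    set q := ((n⁻¹ : U) : G) with hqdef
    have hy : q * (t * x) * q⁻¹ = t * x := by
      rw [mem_centralizer_singleton_iff.mp (n⁻¹).2, mul_inv_cancel_right]
    have hqt := h.mem_J_of_mem (g := q) (mem_sup_right (mul_mem (mul_mem hq
      (h.R_le_NE (h.E_le_R h.t_mem_E))) (inv_mem hq)))
    have hqx := (mem_normalizer_iff.mp (h.NE_le_normalizer_X hq) x).mp hx
    obtain ⟨h1, -⟩ := h.JX_unique hqt h.t_mem_J hqx hx (by
      calc q * t * q⁻¹ * (q * x * q⁻¹) = q * (t * x) * q⁻¹ := by group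
        _ = t * x := hy)
    rw [hne]
    exact Subtype.ext (by simpa [hqdef] using h1)
  obtain ⟨O, hOn, hOodd, hO⟩ := Cfsg.Agent.ZStar.exists_odd_normal hiso
  haveI := hOn
  set O' := O.map U.subtype with hO'
  have hodd' : Odd (Nat.card O') := by
    rw [hO', ← Nat.card_congr (O.equivMapOfInjective _ U.subtype_injective).toEquiv]
    exact hOodd
  haveI : IsMulCommutative (Vgrp t a b) :=
    ⟨⟨fun u v => Subtype.ext (h.E_comm u.2.1 v.2.1)⟩⟩
  have hVc : ¬ IsCyclic (Vgrp t a b) := by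
    intro hcyc
    have h1 : Monoid.exponent (Vgrp t a b) = 4 := by rw [IsCyclic.exponent_eq_card, h.card_V]
    have h2 : Monoid.exponent (Vgrp t a b) ∣ 2 :=
      Monoid.exponent_dvd_of_forall_pow_eq_one fun u =>
        Subtype.ext (by rw [SubmonoidClass.coe_pow, pow_two, h.E_sq u.2.1]; rfl)
    rw [h1] at h2
    exact absurd h2 (by decide)
  have hVn : Vgrp t a b ≤ normalizer (O' : Set G) := fun v hv =>
    mem_normalizer_of_conj fun _ ⟨o, ho, he⟩ =>
      ⟨⟨v, hEU hv.1⟩ * o * ⟨v, hEU hv.1⟩⁻¹, hOn.conj_mem o ho _, by rw [← he]; rfl⟩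
  have hcop : (Nat.card (Vgrp t a b)).Coprime (Nat.card O') := by
    rw [h.card_V, show (4 : ℕ) = 2 ^ 2 by norm_num]
    exact Nat.Coprime.pow_left 2 (Nat.coprime_two_left.mpr hodd')
  have hO'M : O' ≤ Mgrp t a b := by
    rw [← Cfsg.Agent.Grp.generated_by_centralizers (Vgrp t a b) O' hVc hVn hcop]
    refine iSup₂_le fun v hv => inf_le_right.trans ?_
    obtain ⟨n, hn, hnv⟩ := h.exists_NE hv.1.1 hv.2
    exact h.centralizer_conj_le hnv (mem_sup_right hn)
  intro g hg
  refine h.mem_M_of_conj ?_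
  have h1 : t * g * t⁻¹ * g⁻¹ ∈ Mgrp t a b := hO'M ⟨_, hO ⟨g, hg⟩, rfl⟩
  have h2 := mul_mem (inv_mem h.t_mem_M) h1
  rwa [show t⁻¹ * (t * g * t⁻¹ * g⁻¹) = g * t⁻¹ * g⁻¹ by group, h.invt] at h2

/-- The centraliser of an involution of `M` lies in `M`. -/
theorem centralizer_invol_le (hsmall : Small G) (hM : Mgrp t a b ≠ ⊤) {d : G}
    (hd : d ∈ Mgrp t a b) (hd2 : orderOf d = 2) : centralizer ({d} : Set G) ≤ Mgrp t a b := by
  obtain ⟨j, hj, hx⟩ := h.exists_JX hd
  set x := j⁻¹ * d with hxdef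
  have hde : d = j * x := by rw [hxdef, mul_inv_cancel_left]
  have hc : Commute j x := h.comm_JX hj hx
  have hsq : (j * j) * (x * x) = 1 * 1 := by
    rw [one_mul, ← (orderOf_eq_two.mp hd2).1, hde]
    calc (j * j) * (x * x) = j * (j * x) * x := by group
      _ = j * (x * j) * x := by rw [hc.eq]
      _ = j * x * (j * x) := by group
  obtain ⟨hjj, hxx⟩ := h.JX_unique (mul_mem hj hj) (one_mem _) (mul_mem hx hx) (one_mem _) hsq
  by_cases hj1 : j = 1
  · rw [hde, hj1, one_mul]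
    exact h.centralizer_X_le hsmall hM hx fun hh =>
      (orderOf_eq_two.mp hd2).2 (by rw [hde, hj1, hh, one_mul])
  obtain ⟨p, hp, hpj⟩ := h.janko.2.2 j hj (orderOf_eq_two.mpr ⟨hjj, hj1⟩)
  by_cases hx1 : x = 1
  · rw [hde, hx1, mul_one]
    exact h.centralizer_conj_le hpj (h.J_le_M hp)
  intro z hz
  have hz' : p⁻¹ * z * p ∈ centralizer ({t * x} : Set G) := mem_centralizer_singleton_iff.mpr (by
    have hpd : p * (t * x) * p⁻¹ = d := by
      rw [hde, ← hpj, show p * (t * x) * p⁻¹ = p * t * (x * p⁻¹) by group,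
        ← (h.comm_JX (inv_mem hp) hx).eq]
      group
    have h2 := mem_centralizer_singleton_iff.mp hz
    rw [← hpd] at h2
    calc p⁻¹ * z * p * (t * x) = p⁻¹ * (z * (p * (t * x) * p⁻¹)) * p := by group
      _ = p⁻¹ * (p * (t * x) * p⁻¹ * z) * p := by rw [h2]
      _ = t * x * (p⁻¹ * z * p) := by group)
  simpa [mul_assoc] using mul_mem (mul_mem (h.J_le_M hp) (h.centralizer_tx_le hx hx1 hxx hz'))
    (inv_mem (h.J_le_M hp))

end Hyp

end Cfsg.Agent.WeakJ1
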